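import Cfsg.Agent.Lib.J4Local.Three
import Cfsg.Agent.Lib.J4Local.AutThree
import Cfsg.Agent.Lib.Golay.AutM22
import Cfsg.Agent.Lib.J4V.M22Sub
import Cfsg.Agent.Lib.J4V.Inst
import Cfsg.Agent.Lib.M22Order.Known

/-!
# Janko four type: elements of order five in M22 and its automorphism group
-/

set_option autoImplicit false
set_option linter.style.haveILetI false
set_option linter.unusedSectionVars false

namespace Cfsg.Agent.J4Five

open Subgroup

theorem fac_five {n : ℕ} (hn : n ≠ 0) (h5 : 5 ∣ n) (h25 : ¬ 25 ∣ n) : n.factorization 5 = 1 := by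
  have hp : Nat.Prime 5 := by norm_num
  have h1 : 0 < n.factorization 5 := hp.factorization_pos_of_dvd hn h5
  have h2 : ¬ 2 ≤ n.factorization 5 := fun h => h25 (by
    have := (hp.pow_dvd_iff_le_factorization hn).2 h
    simpa using this)
  omega

/-- A subgroup of order five is the group generated by any element of order five in it. -/
theorem eq_zpowers_five {G : Type*} [Group G] [Finite G] {Q : Subgroup G} (hQ : Nat.card ↥Q = 5) {q : G}
    (hq : q ∈ Q) (h5 : orderOf q = 5) : Q = zpowers q :=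
  (eq_of_le_of_card_ge (zpowers_le.2 hq) (by rw [Nat.card_zpowers, h5, hQ])).symm

/-- Sylow: in a subgroup of order not divisible by 25 two elements of order five generate conjugate groups. -/
theorem conj_five {G : Type*} [Group G] [Finite G] {K : Subgroup G} (hK : ¬ 25 ∣ Nat.card ↥K) {a b : G}
    (ha : a ∈ K) (hb : b ∈ K) (ha5 : orderOf a = 5) (hb5 : orderOf b = 5) :
    ∃ c ∈ K, zpowers (c * a * c⁻¹) = zpowers b := by
  haveI : Fact (Nat.Prime 5) := ⟨by norm_num⟩
  have h5 : 5 ∣ Nat.card ↥K := ha5 ▸ K.orderOf_dvd_natCard ha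
  have hf := fac_five Nat.card_pos.ne' h5 hK
  have mk : ∀ {x : G} (hx : x ∈ K), orderOf x = 5 → ∃ R : Sylow 5 ↥K, (R : Subgroup ↥K).map K.subtype = zpowers x := by
    intro x hx hx5
    refine ⟨Sylow.ofCard (zpowers (⟨x, hx⟩ : ↥K)) ?_, ?_⟩
    · rw [Nat.card_zpowers, Subgroup.orderOf_mk, hx5, hf, pow_one]
    · rw [Sylow.coe_ofCard, MonoidHom.map_zpowers]; rfl
  obtain ⟨A, hA⟩ := mk ha ha5
  obtain ⟨B, hB⟩ := mk hb hb5
  obtain ⟨c, hc⟩ := MulAction.exists_smul_eq ↥K A B
  refine ⟨c, c.2, eq_of_le_of_card_ge ?_ ?_⟩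
  · rw [zpowers_le, ← hB, ← hc]
    obtain ⟨y, hy, e⟩ : a ∈ (A : Subgroup ↥K).map K.subtype := hA ▸ mem_zpowers a
    refine ⟨c * y * c⁻¹, ⟨y, hy, rfl⟩, ?_⟩
    show ((c * y * c⁻¹ : ↥K) : G) = _
    push_cast
    rw [show (y : G) = a from e]
  · rw [Nat.card_zpowers, Nat.card_zpowers, hb5,
      show c * a * (c : G)⁻¹ = MulAut.conj (c : G) a from rfl,
      MulEquiv.orderOf_eq, ha5]

/-- An element of order five of M22. -/
theorem cent_five {m : ↥Cfsg.Spor.M22} (hm : orderOf m = 5) :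
    Nat.card ↥(centralizer ({m} : Set ↥Cfsg.Spor.M22)) = 5 ∧
      Nat.card ↥(normalizer (zpowers m : Set ↥Cfsg.Spor.M22)) = 20 := by
  haveI := Cfsg.Agent.Golay.M22TwoBlock.isSimple
  haveI : Fact (Nat.Prime 5) := ⟨by norm_num⟩
  have hc := Cfsg.Agent.Golay.M22Involution.card_M22
  let Q : Sylow 5 ↥Cfsg.Spor.M22 := Sylow.ofCard (zpowers m) (by
    rw [Nat.card_zpowers, hm, hc, fac_five (by norm_num) (by norm_num) (by norm_num), pow_one])
  have hQ : (Q : Subgroup ↥Cfsg.Spor.M22) = zpowers m := Sylow.coe_ofCard ..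
  have hN := J4V.card_normalizer_five hc Q
  have hC := M22Order.card_five hc Q
  rw [hQ] at hN hC
  refine ⟨?_, hN⟩
  rw [← hC]
  congr 1
  congr 1
  ext g
  rw [mem_centralizer_singleton_iff, mem_centralizer_iff]
  refine ⟨fun h x hx => ?_, fun h => (h m (mem_zpowers m)).symm⟩
  obtain ⟨i, rfl⟩ := mem_zpowers_iff.1 hx
  exact ((show Commute g m from h).zpow_right i).eq.symm

/-- An element commuting with an element of order five and squaring to one is trivial in M22. -/
theorem inv_cent_five {m a : ↥Cfsg.Spor.M22} (hm : orderOf m = 5) (h2 : a * a = 1) (hc : a * m = m * a) :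
    a = 1 := by
  have h1 := (centralizer ({m} : Set ↥Cfsg.Spor.M22)).orderOf_dvd_natCard (mem_centralizer_singleton_iff.2 hc)
  rw [(cent_five hm).1] at h1
  have h3 : orderOf a ∣ 2 := orderOf_dvd_of_pow_eq_one (by rw [pow_two, h2])
  exact orderOf_eq_one_iff.1 (Nat.dvd_one.1 ((Nat.dvd_gcd h1 h3).trans (by norm_num)))

/-- An element of order five of `Aut M22`: it is inner, and the orders of its centraliser and normaliser. -/
theorem aut_five {y : MulAut ↥Cfsg.Spor.M22} (hy : orderOf y = 5) :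
    Nat.card ↥(centralizer ({y} : Set (MulAut ↥Cfsg.Spor.M22))) = 10 ∧
      Nat.card ↥(normalizer (zpowers y : Set (MulAut ↥Cfsg.Spor.M22))) = 40 ∧
      ∀ a ∈ Cfsg.Inn ↥Cfsg.Spor.M22, a * y = y * a → a * a = 1 → a = 1 := by
  haveI := Cfsg.Agent.Golay.M22TwoBlock.isSimple
  haveI : Fact (Nat.Prime 5) := ⟨by norm_num⟩
  haveI : Finite (MulAut ↥Cfsg.Spor.M22) :=
    Finite.of_injective (fun e : MulAut ↥Cfsg.Spor.M22 => e.toEquiv) fun a b h =>
      MulEquiv.ext fun x => Equiv.congr_fun h x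
  have hidx : (Cfsg.Inn ↥Cfsg.Spor.M22).index = 2 := Cfsg.Agent.Golay.AutM22.index_inn
  haveI : (Cfsg.Inn ↥Cfsg.Spor.M22).Normal := normal_of_index_eq_two hidx
  have hinj := J4Local.conj_m22_injective
  have hyI : ∀ y : MulAut ↥Cfsg.Spor.M22, orderOf y = 5 → y ∈ Cfsg.Inn ↥Cfsg.Spor.M22 := fun y hy => by
    rw [← QuotientGroup.eq_one_iff, ← orderOf_eq_one_iff]
    have h1 := orderOf_map_dvd (QuotientGroup.mk' (Cfsg.Inn ↥Cfsg.Spor.M22)) y
    have h2 := orderOf_dvd_natCard (QuotientGroup.mk' (Cfsg.Inn ↥Cfsg.Spor.M22) y)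
    rw [← index_eq_card, hidx] at h2
    rw [hy] at h1
    exact Nat.dvd_one.1 ((Nat.dvd_gcd h1 h2).trans (by norm_num))
  have pre : ∀ y : MulAut ↥Cfsg.Spor.M22, orderOf y = 5 → ∃ m, MulAut.conj m = y ∧ orderOf m = 5 := fun y hy => by
    obtain ⟨m, hm⟩ := hyI y hy
    exact ⟨m, hm, by
      rw [← J4Local.orderOf_of_conj (m := m), show (MulAut.conj m : MulAut ↥Cfsg.Spor.M22) = y from hm, hy]⟩
  obtain ⟨m, hm, hm5⟩ := pre y hy
  obtain ⟨hC, hN⟩ := cent_five hm5
  have two : ∀ K : Subgroup (MulAut ↥Cfsg.Spor.M22),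
      Nat.card ↥K ∣ 2 * Nat.card ↥(K.comap (MulAut.conj (G := ↥Cfsg.Spor.M22))) := by
    intro K
    have h1 : (K ⊓ Cfsg.Inn ↥Cfsg.Spor.M22 : Subgroup _) =
        (K.comap (MulAut.conj (G := ↥Cfsg.Spor.M22))).map MulAut.conj := by
      rw [map_comap_eq, inf_comm]
    rw [← card_map_of_injective hinj, ← h1]
    have h2 := ((Cfsg.Inn ↥Cfsg.Spor.M22).subgroupOf K).card_mul_index
    rw [← h2, mul_comm 2]
    refine Nat.mul_dvd_mul ?_ (hidx ▸ relIndex_dvd_index_of_normal _ K)
    rw [← inf_subgroupOf_left, Nat.card_congr (subgroupOfEquivOfLe inf_le_left).toEquiv]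
  have hcm : (centralizer ({y} : Set (MulAut ↥Cfsg.Spor.M22))).comap MulAut.conj =
      centralizer ({m} : Set ↥Cfsg.Spor.M22) := by
    ext g
    rw [mem_comap, mem_centralizer_singleton_iff, mem_centralizer_singleton_iff, ← hm, ← map_mul, ← map_mul]
    exact hinj.eq_iff
  have hz : ∀ g : ↥Cfsg.Spor.M22, MulAut.conj g ∈ zpowers y ↔ g ∈ zpowers m := fun g => by
    rw [← hm, mem_zpowers_iff, mem_zpowers_iff]
    refine exists_congr fun i => ?_
    rw [← map_zpow]
    exact hinj.eq_iff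
  set NA := normalizer (zpowers y : Set (MulAut ↥Cfsg.Spor.M22)) with hNA
  have hnm : NA.comap MulAut.conj = normalizer (zpowers m : Set ↥Cfsg.Spor.M22) := by
    ext g
    rw [mem_comap, hNA]
    constructor
    · intro hg
      refine M22Order.mem_normalizer_of_conj fun a ha => ?_
      rw [← hz, map_mul, map_mul, map_inv]
      exact M22Order.conj_mem_of_mem_normalizer hg ((hz a).2 ha)
    · intro hg
      refine M22Order.mem_normalizer_of_conj fun a ha => ?_
      obtain ⟨i, rfl⟩ := mem_zpowers_iff.1 ha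
      rw [← hm, ← map_zpow, ← map_inv, ← map_mul, ← map_mul, hm, hz]
      exact M22Order.conj_mem_of_mem_normalizer hg (zpow_mem (mem_zpowers m) i)
  have hN40 : Nat.card ↥NA ∣ 40 := by
    have := two NA
    rwa [hnm, hN] at this
  -- an outer element normalising
  obtain ⟨g, hg⟩ : ∃ g, g ∉ Cfsg.Inn ↥Cfsg.Spor.M22 := by
    by_contra h
    push Not at h
    rw [(eq_top_iff' _).2 h, index_top] at hidx
    omega
  obtain ⟨m', hm', hm'5⟩ := pre (g * y * g⁻¹) (by
    rw [show g * y * g⁻¹ = MulAut.conj g y from rfl,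
      MulEquiv.orderOf_eq, hy])
  obtain ⟨c, -, hc⟩ := conj_five (K := (⊤ : Subgroup ↥Cfsg.Spor.M22)) (by
    rw [Nat.card_congr topEquiv.toEquiv, Cfsg.Agent.Golay.M22Involution.card_M22]; norm_num)
    (mem_top m') (mem_top m) hm'5 hm5
  have hout : MulAut.conj c * g ∈ NA ∧ MulAut.conj c * g ∉ Cfsg.Inn ↥Cfsg.Spor.M22 := by
    constructor
    · refine M22Order.mem_normalizer_of_conj fun a ha => ?_
      obtain ⟨i, rfl⟩ := mem_zpowers_iff.1 ha
      rw [← conj_zpow]
      refine zpow_mem ?_ i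
      rw [show MulAut.conj c * g * y * (MulAut.conj c * g)⁻¹ = MulAut.conj c * (g * y * g⁻¹) * (MulAut.conj c)⁻¹ by
        group, ← hm', ← map_inv, ← map_mul, ← map_mul, hz, ← hc]
      exact mem_zpowers _
    · intro h
      refine hg ?_
      have h1 : MulAut.conj c ∈ Cfsg.Inn ↥Cfsg.Spor.M22 := ⟨c, rfl⟩
      simpa using mul_mem (inv_mem h1) h
  have hN' : Nat.card ↥NA = 40 := by
    set I := (normalizer (zpowers m : Set ↥Cfsg.Spor.M22)).map MulAut.conj with hI
    have hIN : I ≤ NA := by rw [hI, ← hnm]; exact map_comap_le _ _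
    have hIc : Nat.card ↥I = 20 := by rw [hI, card_map_of_injective hinj, hN]
    obtain ⟨k, hk⟩ := card_dvd_of_le hIN
    rw [hIc] at hk
    rw [hk, show (40 : ℕ) = 20 * 2 from rfl, Nat.mul_dvd_mul_iff_left (by norm_num)] at hN40
    rcases (Nat.dvd_prime Nat.prime_two).1 hN40 with rfl | rfl
    · exfalso
      have e := eq_of_le_of_card_ge hIN (by rw [hk, hIc])
      obtain ⟨n, -, hn⟩ := e.symm ▸ hout.1
      exact hout.2 ⟨n, hn⟩
    · rw [hk]
  have hC10 : Nat.card ↥(centralizer ({y} : Set (MulAut ↥Cfsg.Spor.M22))) = 10 := by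
    have hle : centralizer ({y} : Set (MulAut ↥Cfsg.Spor.M22)) ≤ NA := fun a ha =>
      M22Order.mem_normalizer_of_conj fun b hb => by
        obtain ⟨i, rfl⟩ := mem_zpowers_iff.1 hb
        rw [((show Commute a y from mem_centralizer_singleton_iff.1 ha).zpow_right i).eq, mul_inv_cancel_right]
        exact zpow_mem (mem_zpowers y) i
    have h10 := two (centralizer ({y} : Set (MulAut ↥Cfsg.Spor.M22)))
    rw [hcm, hC] at h10
    set f := (zpowers y).normalizerMonoidHom
    have h1 := f.ker.card_mul_index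
    rw [index_ker, normalizerMonoidHom_ker] at h1
    have hsub : Nat.card ↥((centralizer ((zpowers y : Subgroup _) : Set (MulAut ↥Cfsg.Spor.M22))).subgroupOf NA) =
        Nat.card ↥(centralizer ({y} : Set (MulAut ↥Cfsg.Spor.M22))) := by
      have e : centralizer ((zpowers y : Subgroup _) : Set (MulAut ↥Cfsg.Spor.M22)) =
          centralizer ({y} : Set (MulAut ↥Cfsg.Spor.M22)) := by
        ext a
        rw [mem_centralizer_singleton_iff, mem_centralizer_iff]
        refine ⟨fun h => (h y (mem_zpowers y)).symm, fun h b hb => ?_⟩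
        obtain ⟨i, rfl⟩ := mem_zpowers_iff.1 hb
        exact ((show Commute a y from h).zpow_right i).eq.symm
      rw [e]
      exact Nat.card_congr (subgroupOfEquivOfLe hle).toEquiv
    have hA : Nat.card (MulAut ↥(zpowers y)) = 4 := by
      rw [IsCyclic.card_mulAut, Nat.card_zpowers, hy, Nat.totient_prime (by norm_num)]
    have hr : Nat.card ↥f.range ∣ 4 := hA ▸ card_subgroup_dvd_card _
    rw [hsub, hN'] at h1
    have hr' := Nat.le_of_dvd (by norm_num) hr
    have hc' := Nat.le_of_dvd (by norm_num) h10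
    nlinarith
  refine ⟨hC10, hN', fun a ha hay h2 => ?_⟩
  obtain ⟨b, rfl⟩ := ha
  have h1 : b = 1 := inv_cent_five hm5 (hinj (by rw [map_mul, map_one]; exact h2))
    (hinj (by rw [map_mul, map_mul, hm]; exact hay))
  rw [h1, map_one]

variable {G : Type*} [Group G] [Finite G]

/-- An embedded M22 gives a subgroup of order twenty in which a subgroup of order five is self-centralizing. -/
theorem exists_twenty (f : ↥Cfsg.Spor.M22 →* G) (hf : Function.Injective f) :
    ∃ x : G, orderOf x = 5 ∧ ∃ R : Subgroup G, zpowers x ≤ R ∧ R ≤ normalizer (zpowers x : Set G) ∧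
      Nat.card ↥R = 20 ∧ R ⊓ centralizer (zpowers x : Set G) = zpowers x := by
  haveI : Fact (Nat.Prime 5) := ⟨by norm_num⟩
  obtain ⟨m, hm⟩ := exists_prime_orderOf_dvd_card' (G := ↥Cfsg.Spor.M22) 5
    (by rw [Cfsg.Agent.Golay.M22Involution.card_M22]; norm_num)
  obtain ⟨hC, hN⟩ := cent_five hm
  refine ⟨f m, by rw [orderOf_injective f hf, hm], (normalizer (zpowers m : Set ↥Cfsg.Spor.M22)).map f, ?_, ?_,
    by rw [card_map_of_injective hf, hN], ?_⟩
  · rw [← MonoidHom.map_zpowers]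
    exact map_mono le_normalizer
  · rw [← MonoidHom.map_zpowers]
    exact map_le_iff_le_comap.2 fun g hg => M22Order.mem_normalizer_of_conj (by
      rintro _ ⟨a, ha, rfl⟩
      exact ⟨_, M22Order.conj_mem_of_mem_normalizer hg ha, by rw [map_mul, map_mul, map_inv]⟩)
  · refine le_antisymm ?_ (le_inf ?_ ?_)
    · rintro _ ⟨⟨g, hg, rfl⟩, h⟩
      have h1 : g ∈ centralizer ({m} : Set ↥Cfsg.Spor.M22) := mem_centralizer_singleton_iff.2 (hf (by
        rw [map_mul, map_mul]; exact (mem_centralizer_iff.1 h _ (mem_zpowers (f m))).symm))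
      have h2 : centralizer ({m} : Set ↥Cfsg.Spor.M22) = zpowers m :=
        (eq_of_le_of_card_ge (zpowers_le.2 (mem_centralizer_singleton_iff.2 rfl))
          (by rw [hC, Nat.card_zpowers, hm])).symm
      rw [h2] at h1
      rw [← MonoidHom.map_zpowers]
      exact mem_map_of_mem f h1
    · rw [← MonoidHom.map_zpowers]
      exact map_mono le_normalizer
    · intro a ha
      exact mem_centralizer_iff.2 fun b hb => by
        obtain ⟨i, rfl⟩ := mem_zpowers_iff.1 ha
        obtain ⟨j, rfl⟩ := mem_zpowers_iff.1 hb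
        exact ((Commute.refl (f m)).zpow_zpow j i).eq

open Cfsg.Agent.J4Local in
/-- A group of Janko four type contains M22. -/
theorem exists_m22 {z : G} {P : Subgroup G} [IsSimpleGroup G] (hG : ¬ IsMulCommutative G)
    (X : J4Eleven.Chart z P) : ∃ f : ↥Cfsg.Spor.M22 →* G, Function.Injective f := by
  obtain ⟨K, -, -, -, ⟨e⟩⟩ := X.exists_complement hG
  let i : ↥Cfsg.Spor.M22 →* ↥Cfsg.M24 := MonoidHom.mk'
    (fun g => ⟨g.1, (Cfsg.Agent.Golay.M22Involution.mem_M22.1 g.2).1⟩)
    fun a b => rfl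
  refine ⟨(K.subtype.comp e.symm.toMonoidHom).comp i,
    (K.subtype_injective.comp e.symm.injective).comp fun a b h => Subtype.ext (congrArg Subtype.val h :)⟩

end Cfsg.Agent.J4Five
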