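import Cfsg.Agent.Lib.J4Five.Core
import Cfsg.Agent.Lib.J4V.Cent
import Cfsg.Agent.Lib.J4V.Invol.Classes

/-!
# Janko four type: the conjugates of `z` centralising an element of order five form one subgroup
-/

set_option autoImplicit false
set_option linter.style.haveILetI false
set_option linter.unusedSectionVars false

namespace Cfsg.Agent.J4Five

open Subgroup
open Cfsg.Agent.J4Local
open Cfsg.Agent.J4Eleven (Chart fixV mem_fixV)

universe u

variable {G : Type u} [Group G] [Finite G] {z : G} {P : Subgroup G} [IsSimpleGroup G]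
  (hG : ¬ IsMulCommutative G) (X : Chart z P)

/-- An involution commuting with two involutions, or they are conjugate by a centralising element. -/
theorem dihedral_cases {a t x : G} (ha : a * a = 1) (ht : t * t = 1) (hax : a * x = x * a) (htx : t * x = x * t) :
    IsConj a t ∨ ∃ i, orderOf i = 2 ∧ i * a = a * i ∧ i * t = t * i ∧ i * x = x * i := by
  have hai : a⁻¹ = a := inv_eq_of_mul_eq_one_right ha
  have hti : t⁻¹ = t := inv_eq_of_mul_eq_one_right ht
  have hdx : Commute (a * t) x := Commute.mul_left hax htx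
  have hinv : a * (a * t) * a⁻¹ = (a * t)⁻¹ := by rw [mul_inv_rev, hai, hti, ← mul_assoc, ha, one_mul]
  have hinvt : t * (a * t) * t⁻¹ = (a * t)⁻¹ := by
    rw [mul_inv_rev, hai, hti, show t * (a * t) * t = t * a * (t * t) by group, ht, mul_one]
  rcases Nat.even_or_odd (orderOf (a * t)) with ⟨k, hk⟩ | ⟨k, hk⟩
  · have hk0 : 0 < k := by
      have := orderOf_pos (a * t); omega
    right
    set i := (a * t) ^ k with hi
    have h2 : i * i = 1 := by rw [hi, ← pow_add, ← hk, pow_orderOf_eq_one]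
    have hi1 : i ≠ 1 := fun e => pow_ne_one_of_lt_orderOf hk0.ne' (by omega) e
    have hii : i⁻¹ = i := inv_eq_of_mul_eq_one_right h2
    have comm : ∀ b, b * (a * t) * b⁻¹ = (a * t)⁻¹ → i * b = b * i := fun b hb => by
      have : b * i * b⁻¹ = i := by rw [hi, ← conj_pow, hb, inv_pow, ← hi, hii]
      exact (mul_inv_eq_iff_eq_mul.1 this).symm
    exact ⟨i, orderOf_eq_prime (by rw [pow_two, h2]) hi1, comm a hinv, comm t hinvt, (hdx.pow_left k).eq⟩
  · left
    refine isConj_iff.2 ⟨(a * t) ^ k, ?_⟩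
    have h1 : a * ((a * t) ^ k)⁻¹ = (a * t) ^ k * a := by
      have h : a * (a * t) ^ k * a⁻¹ = ((a * t) ^ k)⁻¹ := by rw [← conj_pow, hinv, inv_pow]
      rw [← h]
      calc a * (a * (a * t) ^ k * a⁻¹) = (a * a) * (a * t) ^ k * a⁻¹ := by group
        _ = _ := by rw [ha, one_mul, hai]
    calc (a * t) ^ k * a * ((a * t) ^ k)⁻¹ = (a * t) ^ k * (a * ((a * t) ^ k)⁻¹) := by group
      _ = (a * t) ^ (2 * k) * a := by rw [h1, two_mul, pow_add, mul_assoc]
      _ = (a * t)⁻¹ * a := by
          rw [eq_inv_of_mul_eq_one_left (a := (a * t) ^ (2 * k)) (b := a * t)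
            (by rw [← pow_succ, ← hk, pow_orderOf_eq_one])]
      _ = t := by rw [mul_inv_rev, hai, hti, mul_assoc, ha, mul_one]

include hG X

/-- The subgroup of the fixed points of `q` in the subgroup of order `2 ^ 11`. -/
theorem std_fixed_q {q : G} (hqN : q ∈ X.NC) (hq : orderOf q = 5) :
    Nat.card ↥(X.std ⊓ centralizer ({q} : Set G)) = 8 ∧
      ∀ a ∈ X.std, a * q = q * a → IsConj z a → a = z := by
  classical
  haveI : Fact (Nat.Prime 5) := ⟨by norm_num⟩
  have hJ := X.L.J
  have hqC := X.NC_le hqN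
  have hqH := hqC.1
  have hq5 : q ^ 5 = 1 := hq ▸ pow_orderOf_eq_one q
  obtain ⟨-, -, hW4, hfive, -⟩ := fixed_facts X hG hqN hq
  set W0 := fixV z ({q} : Set G) ⊓ X.WV with hW0
  have hqH0 : q ∈ H0 z P := CC_le_H0 z P hqC
  have hpsi : orderOf (X.psi ⟨q, hqH0⟩) = 5 := by
    rw [X.psi_CC hqC hqH0]
    refine orderOf_eq_prime ?_ fun e => ?_
    · rw [← map_pow, show (⟨q, hqC⟩ : ↥(CC z P)) ^ 5 = 1 from Subtype.ext hq5, map_one]
    · have h := (P ⊔ zpowers z).orderOf_dvd_natCard ((X.mem_ker_iff _).1 e)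
      rw [hq, card_six hJ] at h
      norm_num at h
  have hpre : ∀ a ∈ X.std, a * q = q * a → a ∈ preV X.L.J X.WV ∧ vk z a ∈ W0 := by
    intro a ha haq
    have ha0 := X.std_le_H0 ha
    have h2 := X.std_eleven.sq a ha
    have hE : a ∈ EE z := X.mem_EE_of_psi_one ha0 h2 (inv_cent_five hpsi (by
      rw [← map_mul, show (⟨a, ha0⟩ : ↥(H0 z P)) * ⟨a, ha0⟩ = 1 from Subtype.ext h2, map_one]) (by
      rw [← map_mul, ← map_mul]; exact congrArg X.psi (Subtype.ext haq)))
    have hp := X.std_inf_EE ha hE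
    refine ⟨hp, fun c hc => ?_, hp.2⟩
    rw [Set.mem_singleton_iff] at hc
    rw [hc, act_vk hqH hE, show q * a * q⁻¹ = a by rw [← haq, mul_inv_cancel_right]]
  set C := X.std ⊓ centralizer ({q} : Set G) with hC
  have hCm : ∀ {a}, a ∈ C → a * q = q * a := fun h => mem_centralizer_singleton_iff.1 h.2
  have hmod : 2 ^ 11 ≡ Nat.card ↥C [MOD 5] := by
    rw [← X.std_eleven.card]
    exact J4Seven.card_conj_fixed hq5 X.std fun v hv =>
      M22Order.conj_mem_of_mem_normalizer (X.NC_normalizer hqN) hv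
  have hle : Nat.card ↥C ≤ 8 := by
    let f : ↥C →* Multiplicative ↥W0 := MonoidHom.mk'
      (fun a => Multiplicative.ofAdd ⟨vk z a, (hpre a a.2.1 (hCm a.2)).2⟩)
      fun a b => congrArg Multiplicative.ofAdd (Subtype.ext
        (vk_mul (hpre a a.2.1 (hCm a.2)).1.1 (hpre b b.2.1 (hCm b.2)).1.1))
    have hk : Nat.card ↥f.ker ≤ 2 := by
      rw [← hJ.two, ← Nat.card_zpowers]
      refine Nat.card_le_card_of_injective (fun a => ⟨a.1.1, (vk_eq_zero_iff hJ
        (hpre a.1 a.1.2.1 (hCm a.1.2)).1.1).1 ?_⟩) fun a b e => Subtype.ext (Subtype.ext (congrArg Subtype.val e :))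
      exact congrArg Subtype.val (Multiplicative.ofAdd.injective (a.2 : f a.1 = Multiplicative.ofAdd 0))
    have hr : Nat.card ↥f.range ≤ 4 := by
      rw [← hW4, ← Nat.card_congr Multiplicative.toAdd]
      exact Subgroup.card_le_card_group _
    have h := f.ker.card_mul_index
    rw [index_ker] at h
    nlinarith
  refine ⟨?_, fun a ha haq hza => ?_⟩
  · have hd := card_dvd_of_le (inf_le_left : C ≤ X.std)
    rw [X.std_eleven.card] at hd
    obtain ⟨k, -, hk⟩ := (Nat.dvd_prime_pow Nat.prime_two).1 hd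
    rw [hk] at hmod hle ⊢
    have hk3 : k ≤ 3 := by
      by_contra h
      have := Nat.pow_le_pow_right (show 0 < 2 by norm_num) (show 4 ≤ k by omega)
      omega
    interval_cases k <;> first | rfl | exact absurd hmod (by decide)
  · obtain ⟨hp, hW⟩ := hpre a ha haq
    by_cases h0 : vk z a = 0
    · rcases hJ.mem_zpowers ((vk_eq_zero_iff hJ hp.1).1 h0) with rfl | rfl
      · exact absurd (isConj_one_left.1 hza) hJ.ctr.ne_one
      · rfl
    · exact absurd hza (X.not_zt_five hG hp (hfive _ hW h0))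

/-- An element of order five normalising the subgroup of order `2 ^ 11`. -/
theorem std_fixed {x : G} (hxN : x ∈ normalizer (X.std : Set G)) (hx : orderOf x = 5) :
    Nat.card ↥(X.std ⊓ centralizer ({x} : Set G)) = 8 ∧
      ∃ y ∈ X.std, IsConj z y ∧ y * x = x * y ∧ ∀ a ∈ X.std, a * x = x * a → IsConj z a → a = y := by
  obtain ⟨q, hqN, hq⟩ := exists_q X
  obtain ⟨h8, huniq⟩ := std_fixed_q hG X hqN hq
  have h25 : ¬ 25 ∣ Nat.card ↥(normalizer (X.std : Set G)) := by rw [(X.params hG).1]; norm_num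
  obtain ⟨c, hc, hcz⟩ := conj_five h25 (X.NC_normalizer hqN) hxN hq hx
  have hcm : ∀ {a : G}, a * q = q * a ↔ (c * a * c⁻¹) * x = x * (c * a * c⁻¹) := fun {a} =>
    ⟨fun h => comm_zpowers hcz.symm (by
        calc c * a * c⁻¹ * (c * q * c⁻¹) = c * (a * q) * c⁻¹ := by group
          _ = _ := by rw [h]; group),
     fun h => by
        have h' := comm_zpowers hcz h
        calc a * q = c⁻¹ * (c * a * c⁻¹ * (c * q * c⁻¹)) * c := by group
          _ = _ := by rw [h']; group⟩
  have hqz : z * q = q * z := (mem_HH.1 (X.NC_le hqN).1).symm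
  refine ⟨?_, c * z * c⁻¹, M22Order.conj_mem_of_mem_normalizer hc X.z_mem_std, isConj_iff.2 ⟨c, rfl⟩, hcm.1 hqz,
    fun a ha hax hza => ?_⟩
  · rw [← h8]
    have e : X.std ⊓ centralizer ({x} : Set G) = cjS c (X.std ⊓ centralizer ({q} : Set G)) := by
      ext a
      rw [mem_cjS, mem_inf, mem_inf, mem_centralizer_singleton_iff, mem_centralizer_singleton_iff, hcm,
        show c * (c⁻¹ * a * c) * c⁻¹ = a by group]
      exact and_congr_left' ⟨fun h => by simpa using M22Order.conj_mem_of_mem_normalizer (inv_mem hc) h,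
        fun h => by simpa [mul_assoc] using M22Order.conj_mem_of_mem_normalizer hc h⟩
    rw [e, card_cjS]
  · have h := huniq (c⁻¹ * a * c) (by simpa using M22Order.conj_mem_of_mem_normalizer (inv_mem hc) ha)
      (hcm.2 (by rwa [show c * (c⁻¹ * a * c) * c⁻¹ = a by group]))
      (hza.trans (isConj_iff.2 ⟨c⁻¹, by rw [inv_inv]⟩))
    rw [← h]; group

/-- Two conjugates of `z` centralising `x` and an involution of the other class commute. -/
theorem pairwise {i x a b : G} (hi : orderOf i = 2) (hin : ¬ IsConj z i) (hx : orderOf x = 5) (hix : i * x = x * i)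
    (ha : IsConj z a) (hax : a * x = x * a) (hai : a * i = i * a) (hb : IsConj z b) (hbx : b * x = x * b)
    (hbi : b * i = i * b) : a * b = b * a := by
  obtain ⟨g, hg⟩ := J4V.Invol.exists_conj_DD hG X hi hin
  set d := g * i * g⁻¹ with hd
  have cj : ∀ {b c : G}, b * c = c * b → g * b * g⁻¹ * (g * c * g⁻¹) = g * c * g⁻¹ * (g * b * g⁻¹) := by
    intro b c h
    calc g * b * g⁻¹ * (g * c * g⁻¹) = g * (b * c) * g⁻¹ := by group
      _ = _ := by rw [h]; group
  have zc : ∀ {b : G}, IsConj z b → IsConj z (g * b * g⁻¹) := fun h => h.trans (isConj_iff.2 ⟨g, rfl⟩)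
  have hx' : orderOf (g * x * g⁻¹) = 5 := by
    rw [← hx, show g * x * g⁻¹ = MulAut.conj g x from rfl, MulEquiv.orderOf_eq]
  have hN : ∀ {b : G}, b * d = d * b → b ∈ normalizer (X.std : Set G) := fun h =>
    X.centralizer_le_of_not_zt hG hg.1 hg.2.1 hg.2.2 (mem_centralizer_singleton_iff.2 h)
  obtain ⟨-, y, hy, hyz, hyx, huniq⟩ := std_fixed hG X (hN (cj hix.symm)) hx'
  have hcommy : ∀ {b : G}, IsConj z b → b * x = x * b → b * i = i * b →
      g * b * g⁻¹ * y = y * (g * b * g⁻¹) := fun {b} _ hbx hbi => by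
    set b' := g * b * g⁻¹
    have h := huniq (b' * y * b'⁻¹) (M22Order.conj_mem_of_mem_normalizer (hN (cj hbi)) hy) (by
      calc b' * y * b'⁻¹ * (g * x * g⁻¹) = b' * (y * (g * x * g⁻¹)) * b'⁻¹ := by
            rw [mul_assoc (b' * y) b'⁻¹, ((show Commute b' (g * x * g⁻¹) from cj hbx).inv_left).eq]; group
        _ = b' * (g * x * g⁻¹) * y * b'⁻¹ := by rw [hyx]; group
        _ = _ := by rw [show b' * (g * x * g⁻¹) = g * x * g⁻¹ * b' from cj hbx]; group)
      (hyz.trans (isConj_iff.2 ⟨b', rfl⟩))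
    exact mul_inv_eq_iff_eq_mul.1 h
  obtain ⟨S, F⟩ := exists_five hG X hyz hx' hyx
  have h := F.comm (Five.mem_of_comm hG X F hx' hyz (zc ha) (cj hax) (hcommy ha hax hai))
    (Five.mem_of_comm hG X F hx' hyz (zc hb) (cj hbx) (hcommy hb hbx hbi))
  calc a * b = g⁻¹ * (g * a * g⁻¹ * (g * b * g⁻¹)) * g := by group
    _ = _ := by rw [h]; group

/-- A non-conjugate of `z` in the centraliser of `z` and `x`. -/
theorem exists_t {x : G} (hx : orderOf x = 5) (hxz : x * z = z * x) :
    ∃ t, orderOf t = 2 ∧ ¬ IsConj z t ∧ t * x = x * t ∧ t * z = z * t := by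
  obtain ⟨q, hqN, hq⟩ := exists_q X
  obtain ⟨h8, huniq⟩ := std_fixed_q hG X hqN hq
  obtain ⟨t, ht, ht1, htz⟩ : ∃ t ∈ X.std ⊓ centralizer ({q} : Set G), t ≠ 1 ∧ t ≠ z := by
    by_contra h
    push Not at h
    have hs : ((X.std ⊓ centralizer ({q} : Set G) : Subgroup G) : Set G) ⊆ {1, z} := fun w hw => by
      by_cases h' : w = 1
      · exact Or.inl h'
      · exact Or.inr (h w hw h')
    have := Set.ncard_le_ncard hs
    rw [← Nat.card_coe_set_eq, SetLike.coe_sort_coe, h8] at this
    have h2 : ({1, z} : Set G).ncard ≤ 2 := (Set.ncard_insert_le _ _).trans (by rw [Set.ncard_singleton])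
    omega
  obtain ⟨hts, htq0⟩ := mem_inf.1 ht
  have htq := mem_centralizer_singleton_iff.1 htq0
  have htn : ¬ IsConj z t := fun h => htz (huniq t hts htq h)
  obtain ⟨c, hc, hcz⟩ := conj_five (not_dvd_HH X) (X.NC_le hqN).1 (mem_HH.2 hxz) hq hx
  refine ⟨c * t * c⁻¹, ?_, fun h => htn (h.trans (isConj_iff.2 ⟨c, rfl⟩).symm), comm_zpowers hcz.symm ?_, ?_⟩
  · rw [show c * t * c⁻¹ = MulAut.conj c t from rfl, MulEquiv.orderOf_eq]
    exact orderOf_eq_prime (by rw [pow_two, X.std_eleven.sq t hts]) ht1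
  · calc c * t * c⁻¹ * (c * q * c⁻¹) = c * (t * q) * c⁻¹ := by group
      _ = _ := by rw [htq]; group
  · have hcz' := mem_HH.1 hc
    calc c * t * c⁻¹ * z = c * t * (z * c⁻¹) := by
          rw [mul_assoc (c * t), ((show Commute c z from hcz').inv_left).eq]
      _ = c * (t * z) * c⁻¹ := by group
      _ = c * z * t * c⁻¹ := by rw [X.std_eleven.comm t hts z X.z_mem_std]; group
      _ = _ := by rw [hcz']; group

/-- All conjugates of `z` centralising `x` lie in the subgroup of `z`. -/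
theorem all_mem {x : G} (hx : orderOf x = 5) (hxz : x * z = z * x) {S : Subgroup G} (F : Five z z x S) {a : G}
    (ha : IsConj z a) (hax : a * x = x * a) : a ∈ S := by
  have hJ := X.L.J
  have hne : ∀ {w : G}, IsConj z w → w ≠ 1 := fun h e => hJ.ctr.ne_one (isConj_one_left.1 (e ▸ h))
  obtain ⟨t, ht2, htn, htx, htz⟩ := exists_t hG X hx hxz
  have ht : t * t = 1 := by rw [← pow_two, ← ht2, pow_orderOf_eq_one]
  obtain ⟨T, FT⟩ := exists_five hG X ha hx hax
  have ha1 := hne ha
  obtain ⟨i, hi2, hia, hit, hix⟩ := (dihedral_cases (sq_of_zt hG X ha) ht hax htx).resolve_left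
    fun h => htn (ha.trans h)
  -- the involution normalises the subgroup of `a`
  have hta : IsConj z (t * a * t⁻¹) := ha.trans (isConj_iff.2 ⟨t, rfl⟩)
  have htax : t * a * t⁻¹ * x = x * (t * a * t⁻¹) := (((show Commute t x from htx).mul_left hax).mul_left
    (show Commute t x from htx).inv_left).eq
  have htaT : t * a * t⁻¹ ∈ T := by
    by_cases hiz : IsConj z i
    · have hiT : i ∈ T := Five.mem_of_comm hG X FT hx ha hiz hix hia
      have hi1 := hne hiz
      obtain ⟨Ti, FTi⟩ := exists_five hG X hiz hx hix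
      have e := Five.eq_of_mem hG X FT ha1 hiT hi1 FTi
      subst e
      refine Five.mem_of_comm hG X FTi hx hiz hta htax ?_
      exact (((show Commute t i from hit.symm).mul_left (show Commute a i from hia.symm)).mul_left
        (show Commute t i from hit.symm).inv_left).eq
    · exact Five.mem_of_comm hG X FT hx ha hta htax (pairwise hG X hi2 hiz hx hix hta htax
        (((show Commute t i from hit.symm).mul_left (show Commute a i from hia.symm)).mul_left
          (show Commute t i from hit.symm).inv_left).eq ha hax hia.symm)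
  have htT : ∀ b ∈ T, t * b * t⁻¹ ∈ T := by
    intro b hb
    have F1 := FT.conj t (x' := x) (by rw [htx, mul_inv_cancel_right])
    obtain ⟨T', FT'⟩ := exists_five hG X hta hx htax
    have e1 := Five.eq_of_mem hG X FT ha1 htaT (hne hta) FT'
    have e2 := Five.eq_of_mem hG X F1 (hne hta) F1.mem (hne hta) FT'
    rw [← e1, e2, mem_cjS, show t⁻¹ * (t * b * t⁻¹) * t = b by group]
    exact hb
  obtain ⟨b, hb, hb1, hbt⟩ : ∃ b ∈ T, b ≠ 1 ∧ b * t = t * b := by
    by_cases h : a * (t * a * t⁻¹) = 1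
    · refine ⟨a, FT.mem, ha1, ?_⟩
      have e : t * a * t⁻¹ = a := by
        rw [eq_inv_of_mul_eq_one_right h, inv_eq_of_mul_eq_one_right (sq_of_zt hG X ha)]
      exact (mul_inv_eq_iff_eq_mul.1 e).symm
    · refine ⟨_, mul_mem FT.mem htaT, h, ?_⟩
      have hc := FT.comm FT.mem htaT
      have hti : t⁻¹ = t := inv_eq_of_mul_eq_one_right ht
      rw [hti] at hc ⊢
      calc a * (t * a * t) * t = a * t * a * (t * t) := by group
        _ = a * t * a := by rw [ht, mul_one]
        _ = t * (t * a * t * a) := by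
            rw [show t * (t * a * t * a) = (t * t) * (a * t * a) by group, ht, one_mul]
        _ = _ := by rw [hc]
  have hbz : IsConj z b := FT.zt b hb hb1
  have hzb : b * z = z * b := pairwise hG X ht2 htn hx htx hbz (FT.comm_x b hb) hbt (IsConj.refl z) hxz.symm
    htz.symm
  obtain ⟨Tb, FTb⟩ := exists_five hG X hbz hx (FT.comm_x b hb)
  have hbS : b ∈ S := Five.mem_of_comm hG X F hx (IsConj.refl z) hbz (FT.comm_x b hb) hzb
  have e1 := Five.eq_of_mem hG X FT ha1 hb hb1 FTb
  have e2 := Five.eq_of_mem hG X F hJ.ctr.ne_one hbS hb1 FTb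
  rw [← e2, e1]
  exact FT.mem

end Cfsg.Agent.J4Five
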