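import Cfsg.Agent.Lib.J4Five.Line

/-!
# Janko four type: the conjugates of `z` in the centraliser of an element of order five

They commute pairwise and form, with the identity, one elementary subgroup of order eight.
-/

set_option autoImplicit false
set_option linter.style.haveILetI false
set_option linter.unusedSectionVars false

namespace Cfsg.Agent.J4Five

open Subgroup
open Cfsg.Agent.J4Local
open Cfsg.Agent.J4Eleven (Chart fixV mem_fixV)

universe u

variable {G : Type u} [Group G] [Finite G] {z : G} {P : Subgroup G}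

/-- The elementary subgroup of the conjugates of `z` in the `E` of `y` centralising `x`. -/
structure Five (z y x : G) (S : Subgroup G) : Prop where
  card : Nat.card ↥S = 8
  mem : y ∈ S
  comm_x : ∀ a ∈ S, a * x = x * a
  zt : ∀ a ∈ S, a ≠ 1 → IsConj z a
  clq : ∀ a ∈ S, a ≠ 1 → ∀ b ∈ S, b ∈ EE a
  all : ∀ a ∈ EE y, a * x = x * a → IsConj z a → a ∈ S

theorem comm_of_EE {a b : G} (h : b ∈ EE a) : b * a = a * b := mem_HH.1 (EE_le_HH a h)

theorem Five.comm {y x : G} {S : Subgroup G} (F : Five z y x S) {a b : G} (ha : a ∈ S) (hb : b ∈ S) :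
    a * b = b * a := by
  by_cases h : a = 1
  · rw [h, one_mul, mul_one]
  · exact (comm_of_EE (F.clq a ha h b hb)).symm

theorem Five.sq {y x : G} {S : Subgroup G} (F : Five z y x S) (hz : z * z = 1) {a : G} (ha : a ∈ S) :
    a * a = 1 := by
  by_cases h : a = 1
  · rw [h, one_mul]
  · obtain ⟨g, rfl⟩ := isConj_iff.1 (F.zt a ha h)
    rw [conj_mul, hz, mul_one, mul_inv_cancel]

theorem comm_zpowers {x x' a : G} (h : zpowers x' = zpowers x) (ha : a * x = x * a) : a * x' = x' * a := by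
  obtain ⟨i, rfl⟩ := mem_zpowers_iff.1 (h ▸ mem_zpowers x' : x' ∈ zpowers x)
  exact ((show Commute a x from ha).zpow_right i).eq

theorem Five.conj {y x : G} {S : Subgroup G} (F : Five z y x S) (g : G) {x' : G}
    (hx : zpowers x' = zpowers (g * x * g⁻¹)) : Five z (g * y * g⁻¹) x' (cjS g S) := by
  have hzc : ∀ {a : G}, IsConj z a ↔ IsConj z (g⁻¹ * a * g) := fun {a} =>
    ⟨fun h => h.trans (isConj_iff.2 ⟨g⁻¹, by rw [inv_inv]⟩),
      fun h => h.trans (isConj_iff.2 ⟨g, by group⟩)⟩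
  have h2 : ∀ {a : G}, (g⁻¹ * a * g) * x = x * (g⁻¹ * a * g) ↔ a * (g * x * g⁻¹) = g * x * g⁻¹ * a := fun {a} =>
    ⟨fun h => by calc a * (g * x * g⁻¹) = g * (g⁻¹ * a * g * x) * g⁻¹ := by group
                   _ = _ := by rw [h]; group,
     fun h => by calc g⁻¹ * a * g * x = g⁻¹ * (a * (g * x * g⁻¹)) * g := by group
                   _ = _ := by rw [h]; group⟩
  refine ⟨by rw [card_cjS, F.card], mem_cjS.2 (by simpa [mul_assoc] using F.mem), fun a ha => ?_, fun a ha h1 => ?_,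
    fun a ha h1 b hb => ?_, fun a ha hax hza => ?_⟩
  · exact comm_zpowers hx (h2.1 (F.comm_x _ (mem_cjS.1 ha)))
  · exact hzc.2 (F.zt _ (mem_cjS.1 ha) fun e => h1 (by
      calc a = g * (g⁻¹ * a * g) * g⁻¹ := by group
        _ = 1 := by rw [e]; group))
  · have h := F.clq _ (mem_cjS.1 ha) (fun e => h1 (by
      calc a = g * (g⁻¹ * a * g) * g⁻¹ := by group
        _ = 1 := by rw [e]; group)) _ (mem_cjS.1 hb)
    rw [show a = g * (g⁻¹ * a * g) * g⁻¹ by group]
    exact (mem_EE_conj _ g b).2 h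
  · exact mem_cjS.2 (F.all _ ((mem_EE_conj y g a).1 ha) (h2.2 (comm_zpowers hx.symm hax)) (hzc.1 hza))

theorem not_dvd_HH (X : Chart z P) : ¬ 25 ∣ Nat.card ↥(HH z) := by rw [X.L.cardH]; norm_num

variable [IsSimpleGroup G] (hG : ¬ IsMulCommutative G) (X : Chart z P)

include hG X

/-- The frame of the element of order five of the normaliser. -/
theorem exists_five_std {q : G} (hqN : q ∈ X.NC) (hq : orderOf q = 5) : ∃ S, Five z z q S := by
  classical
  have hJ := X.L.J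
  have hqC := X.NC_le hqN
  have hqH := hqC.1
  have hq5 : q ^ 5 = 1 := hq ▸ pow_orderOf_eq_one q
  obtain ⟨-, -, -, -, hT3⟩ := fixed_facts X hG hqN hq
  set T := {v | v ∈ ZE z ∧ act z q v = v} with hT
  obtain ⟨w, hw, hwq⟩ := Set.nonempty_of_ncard_ne_zero (show T.ncard ≠ 0 by omega)
  have hw0 : w ≠ 0 := hw.1
  have hTact : ∀ p ∈ P, ∀ v ∈ T, act z p v ∈ T := fun p hp v hv => ⟨ZE_act X hG (hJ.P_le_HH hp) hv.1, by
    rw [← act_mul hqH (hJ.P_le_HH hp), commute_CC_P hqC hp, act_mul (hJ.P_le_HH hp) hqH, hv.2]⟩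
  have hne : ∀ p ∈ P, p ≠ 1 → ∀ v : VV z, v ≠ 0 → act z p v ≠ v := by
    intro p hp hp1 v hv0 e
    obtain ⟨x, hx, rfl⟩ := vk_surj v
    have hpH := hJ.P_le_HH hp
    have hx' := conj_mem_EE hpH hx
    refine hv0 ((vk_eq_zero_iff hJ hx).2 (hJ.fpf hp hp1 hx ?_))
    rw [act_vk hpH hx] at e
    rw [← vk_eq_zero_iff hJ (mul_mem hx' (inv_mem hx)), vk_mul hx' (inv_mem hx), vk_inv hJ hx, e, VV.two hJ]
  have hppH := hJ.P_le_HH X.pp_mem
  have hpp2 : X.pp * X.pp ≠ 1 := fun e => by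
    have h3 := pow_three_eq_one hJ X.pp_mem
    rw [pow_three, e, mul_one] at h3
    exact X.pp_ne h3
  have hline : ∀ v, v ∈ T ↔ v ∈ X.ln w ∧ v ≠ 0 := by
    set w1 := act z X.pp w with hw1
    set w2 := act z (X.pp * X.pp) w with hw2
    have e21 : w2 = act z X.pp w1 := by rw [hw2, act_mul hppH hppH]
    have h1 : w1 ≠ w := hne _ X.pp_mem X.pp_ne w hw0
    have h2 : w2 ≠ w := hne _ (mul_mem X.pp_mem X.pp_mem) hpp2 w hw0
    have hw10 : w1 ≠ 0 := fun e => hw0 (act_injective hppH (e.trans (map_zero _).symm))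
    have h3 : w2 ≠ w1 := by rw [e21]; exact hne _ X.pp_mem X.pp_ne w1 hw10
    have hs : ({w, w1, w2} : Set (VV z)).ncard = 3 := by
      rw [Set.ncard_insert_of_notMem (by simp [Ne.symm h1, Ne.symm h2]), Set.ncard_pair (Ne.symm h3)]
    have hsT : ({w, w1, w2} : Set (VV z)) = T := Set.eq_of_subset_of_ncard_le (by
      simp only [Set.insert_subset_iff, Set.singleton_subset_iff]
      exact ⟨⟨hw, hwq⟩, hTact _ X.pp_mem _ ⟨hw, hwq⟩, hTact _ (mul_mem X.pp_mem X.pp_mem) _ ⟨hw, hwq⟩⟩)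
      (by rw [hT3, hs])
    have hw20 : w2 ≠ 0 := by rw [e21]; exact fun e => hw10 (act_injective hppH (e.trans (map_zero _).symm))
    have hsl : ({w, w1, w2} : Set (VV z)) = (X.ln w : Set (VV z)) \ {0} := Set.eq_of_subset_of_ncard_le (by
      simp only [Set.insert_subset_iff, Set.singleton_subset_iff, Set.mem_sdiff, Set.mem_singleton_iff,
        SetLike.mem_coe]
      exact ⟨⟨self_mem_line _ _ _, hw0⟩, ⟨X.act_P_cases X.pp_mem w, hw10⟩,
        ⟨X.act_P_cases (mul_mem X.pp_mem X.pp_mem) w, hw20⟩⟩)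
      (by rw [hs, Set.ncard_sdiff_singleton_of_mem (zero_mem (X.ln w)), ← Nat.card_coe_set_eq,
        SetLike.coe_sort_coe, X.card_ln hw0])
    intro v
    rw [← hsT, hsl]
    rfl
  let S : Subgroup G :=
    { carrier := {a | a ∈ EE z ∧ vk z a ∈ X.ln w}
      one_mem' := ⟨one_mem _, by rw [vk_one]; exact zero_mem _⟩
      mul_mem' := fun {a b} ha hb => ⟨mul_mem ha.1 hb.1, by rw [vk_mul ha.1 hb.1]; exact add_mem ha.2 hb.2⟩
      inv_mem' := fun {a} ha => ⟨inv_mem ha.1, by rw [vk_inv hJ ha.1]; exact ha.2⟩ }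
  have hSm : ∀ {a}, a ∈ S ↔ a ∈ EE z ∧ vk z a ∈ X.ln w := Iff.rfl
  have hzS : z ∈ S := hSm.2 ⟨hJ.ctr.z_mem, by rw [vk_z hJ]; exact zero_mem _⟩
  have hzt : ∀ a ∈ S, a ≠ 1 → IsConj z a := fun a ha h1 => by
    by_cases h0 : vk z a = 0
    · rcases hJ.mem_zpowers ((vk_eq_zero_iff hJ ha.1).1 h0) with e | e
      · exact absurd e h1
      · exact e ▸ IsConj.refl z
    · exact ZE_lift X hG ha.1 ((hline _).2 ⟨ha.2, h0⟩).1
  refine ⟨S, ⟨?_, hzS, fun a ha => ?_, hzt, fun a ha h1 b hb => ?_, fun a ha hax hza => hSm.2 ⟨ha, ?_⟩⟩⟩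
  · let f : ↥S →* Multiplicative ↥(X.ln w) := MonoidHom.mk' (fun a => Multiplicative.ofAdd ⟨vk z a, a.2.2⟩)
      fun a b => congrArg Multiplicative.ofAdd (Subtype.ext (vk_mul a.2.1 b.2.1))
    have hk : f.ker = (zpowers z).subgroupOf S := by
      ext a
      rw [MonoidHom.mem_ker, mem_subgroupOf, ← vk_eq_zero_iff hJ a.2.1]
      show Multiplicative.ofAdd (⟨vk z a, a.2.2⟩ : ↥(X.ln w)) = 1 ↔ _
      rw [← ofAdd_zero, Multiplicative.ofAdd.injective.eq_iff, Subtype.ext_iff]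
      rfl
    have hf : Function.Surjective f := fun v => by
      obtain ⟨a, ha, e⟩ := vk_surj ((Multiplicative.toAdd v : ↥(X.ln w)) : VV z)
      exact ⟨⟨a, hSm.2 ⟨ha, by rw [e]; exact (Multiplicative.toAdd v).2⟩⟩,
        congrArg Multiplicative.ofAdd (Subtype.ext e)⟩
    have h := f.ker.card_mul_index
    rw [index_ker, MonoidHom.range_eq_top.2 hf, Nat.card_congr topEquiv.toEquiv, hk,
      Nat.card_congr (subgroupOfEquivOfLe (zpowers_le.2 hzS)).toEquiv, Nat.card_zpowers, hJ.two] at h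
    rw [← h, Nat.card_congr Multiplicative.toAdd, X.card_ln hw0]
  · refine (comm_of_fix hJ hqH hq5 ha.1 ?_).symm
    by_cases h0 : vk z a = 0
    · rw [h0, map_zero]
    · exact ((hline _).2 ⟨ha.2, h0⟩).2
  · have hz_a : z ∈ EE a := (clique X hG ha.1 (hzt a ha h1) (one_mem P)).1
    by_cases h0 : vk z a = 0
    · rcases hJ.mem_zpowers ((vk_eq_zero_iff hJ ha.1).1 h0) with e | e
      · exact absurd e h1
      · exact e ▸ hb.1
    have ha' : a ∈ EE a := by
      obtain ⟨g, hg⟩ := isConj_iff.1 (hzt a ha h1)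
      rw [← hg, mem_EE_conj, show g⁻¹ * (g * z * g⁻¹) * g = z by group]
      exact hJ.ctr.z_mem
    have hp := (clique X hG ha.1 (hzt a ha h1) X.pp_mem).2
    have main : ∀ c ∈ EE z, c ∈ EE a → vk z b = vk z c → b ∈ EE a := fun c hc hca e => by
      rcases (vk_eq_vk_iff hJ hb.1 hc).1 e with r | r <;> rw [r]
      · exact hca
      · exact mul_mem hca hz_a
    have hb' : vk z b ∈ X.ln (vk z a) := by rw [X.ln_eq ha.2 h0]; exact hb.2
    rcases (mem_line hJ).1 hb' with e | e | e | e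
    · exact main 1 (one_mem _) (one_mem _) (e.trans vk_one.symm)
    · exact main a ha.1 ha' e
    · exact main _ (conj_mem_EE hppH ha.1) hp (e.trans (act_vk hppH ha.1))
    · exact main _ (mul_mem ha.1 (conj_mem_EE hppH ha.1)) (mul_mem ha' hp) (e.trans (by
        rw [vk_mul ha.1 (conj_mem_EE hppH ha.1), act_vk hppH ha.1]))
  · by_cases h0 : vk z a = 0
    · rw [h0]; exact zero_mem _
    · refine ((hline _).1 ⟨⟨h0, a, ha, rfl, hza⟩, ?_⟩).1
      rw [act_vk hqH ha, show q * a * q⁻¹ = a by rw [← hax, mul_inv_cancel_right]]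

/-- The frame of any commuting pair. -/
theorem exists_five {y x : G} (hy : IsConj z y) (hx : orderOf x = 5) (hyx : y * x = x * y) :
    ∃ S, Five z y x S := by
  obtain ⟨q, hqN, hq⟩ := exists_q X
  obtain ⟨S, F⟩ := exists_five_std hG X hqN hq
  obtain ⟨g, rfl⟩ := isConj_iff.1 hy
  have hxH : g⁻¹ * x * g ∈ HH z := (mem_HH_conj z g x).1 (mem_HH.2 hyx.symm)
  have hord : orderOf (g⁻¹ * x * g) = 5 := by
    rw [← hx, show g⁻¹ * x * g = MulAut.conj g⁻¹ x by simp, MulEquiv.orderOf_eq]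
  obtain ⟨c, hc, hcz⟩ := conj_five (not_dvd_HH X) (X.NC_le hqN).1 hxH hq hord
  refine ⟨cjS (g * c) S, ?_⟩
  have e : g * z * g⁻¹ = g * c * z * (g * c)⁻¹ := by
    rw [show g * c * z * (g * c)⁻¹ = g * (c * z * c⁻¹) * g⁻¹ by group, mem_HH.1 hc, mul_inv_cancel_right]
  rw [e]
  refine F.conj (g * c) ?_
  have h : (zpowers (c * q * c⁻¹)).map (MulAut.conj g).toMonoidHom =
      (zpowers (g⁻¹ * x * g)).map (MulAut.conj g).toMonoidHom := by rw [hcz]
  rw [MonoidHom.map_zpowers, MonoidHom.map_zpowers] at h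
  have e1 : (MulAut.conj g).toMonoidHom (c * q * c⁻¹) = g * c * q * (g * c)⁻¹ := by
    show g * (c * q * c⁻¹) * g⁻¹ = _
    group
  have e2 : (MulAut.conj g).toMonoidHom (g⁻¹ * x * g) = x := by
    show g * (g⁻¹ * x * g) * g⁻¹ = _
    group
  rw [e1, e2] at h
  exact h.symm

theorem self_mem_EE {a : G} (ha : IsConj z a) : a ∈ EE a := by
  obtain ⟨g, rfl⟩ := isConj_iff.1 ha
  rw [mem_EE_conj, show g⁻¹ * (g * z * g⁻¹) * g = z by group]
  exact X.L.J.ctr.z_mem

theorem sq_of_zt {a : G} (ha : IsConj z a) : a * a = 1 := by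
  obtain ⟨g, rfl⟩ := isConj_iff.1 ha
  rw [conj_mul, X.L.J.ctr.zz, mul_one, mul_inv_cancel]

/-- Commuting conjugates of `z` centralising `x`: related in the inner case. -/
theorem rel_z {a x : G} (hx : orderOf x = 5) (hxz : x * z = z * x) (ha : IsConj z a) (haz : a * z = z * a)
    (hax : a * x = x * a) : a ∈ EE z := by
  classical
  haveI := Cfsg.Agent.Golay.M22TwoBlock.isSimple
  have hJ := X.L.J
  obtain ⟨Φ, -, hker, hPE⟩ := exists_full_hom hJ
  have hidx : (Cfsg.Inn ↥Cfsg.Spor.M22).index = 2 := Cfsg.Agent.Golay.AutM22.index_inn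
  have hxH : x ∈ HH z := mem_HH.2 hxz
  haveI : Fact (Nat.Prime 5) := ⟨by norm_num⟩
  have hy : orderOf (Φ ⟨x, hxH⟩) = 5 := by
    refine orderOf_eq_prime ?_ fun e => ?_
    · rw [← map_pow, show (⟨x, hxH⟩ : ↥(HH z)) ^ 5 = 1 from Subtype.ext (hx ▸ pow_orderOf_eq_one x), map_one]
    · have h1 : (⟨x, hxH⟩ : ↥(HH z)) ∈ Φ.ker := e
      rw [hker, mem_subgroupOf] at h1
      have h2 := (P ⊔ EE z).orderOf_dvd_natCard h1
      rw [hx, hPE] at h2
      norm_num at h2
  obtain ⟨-, -, hin⟩ := aut_five hy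
  have inner : ∀ b (hb : b ∈ HH z), b * b = 1 → b * x = x * b → Φ ⟨b, hb⟩ ∈ Cfsg.Inn ↥Cfsg.Spor.M22 →
      b ∈ EE z := by
    intro b hb h2 hbx hI
    have h1 : (⟨b, hb⟩ : ↥(HH z)) ∈ Φ.ker := hin _ hI (by
      rw [← map_mul, ← map_mul]; exact congrArg Φ (Subtype.ext hbx)) (by
      rw [← map_mul, show (⟨b, hb⟩ : ↥(HH z)) * ⟨b, hb⟩ = 1 from Subtype.ext h2, map_one])
    rw [hker, mem_subgroupOf] at h1
    have hn : P ≤ normalizer (EE z : Set G) := fun p hp => M22Order.mem_normalizer_of_conj fun e he =>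
      conj_mem_EE (hJ.P_le_HH hp) he
    have h1' : b ∈ ((P ⊔ EE z : Subgroup G) : Set G) := h1
    rw [coe_mul_of_left_le_normalizer_right P _ hn] at h1'
    obtain ⟨p, hp, e, he, (rfl : p * e = b)⟩ := h1'
    have h3 := pow_three_eq_one hJ hp
    have hp' : p * p ∈ EE z := by
      have h4 : p * p * ((p⁻¹ * e * p) * e) = 1 := by rw [← h2]; group
      rw [eq_inv_of_mul_eq_one_left h4]
      exact inv_mem (mul_mem (conj_mem_EE' (hJ.P_le_HH hp) he) he)
    have hpE : p ∈ EE z := by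
      have e' : p = (p * p) * (p * p) := by
        calc p = p * p ^ 3 := by rw [h3, mul_one]
          _ = _ := by simp [pow_succ, mul_assoc]
      rw [e']; exact mul_mem hp' hp'
    exact mul_mem hpE he
  by_contra hne
  obtain ⟨S, F⟩ := exists_five hG X ha hx hax
  -- the fixed points of `z`
  have hstab : ∀ b ∈ S, z * b * z⁻¹ ∈ S := fun b hb => by
    by_cases hb1 : b = 1
    · simp [hb1]
    refine F.all _ (conj_mem_EE (mem_HH.2 haz.symm) (F.clq a F.mem (fun e => by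
      rw [e] at ha; exact hJ.ctr.ne_one (isConj_one_left.1 ha)) b hb)) ?_ ((F.zt b hb hb1).trans
        (isConj_iff.2 ⟨z, rfl⟩))
    calc z * b * z⁻¹ * x = z * (b * x) * z⁻¹ := by
          rw [mul_assoc (z * b) z⁻¹ x, ((show Commute x z from hxz).inv_right.eq).symm]; group
      _ = (z * x) * b * z⁻¹ := by rw [F.comm_x b hb]; group
      _ = _ := by rw [← hxz]; group
  let f : ↥S →* ↥S := MonoidHom.mk' (fun b => ⟨b * (z * b * z⁻¹), mul_mem b.2 (hstab b b.2)⟩) fun b c =>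
    Subtype.ext (by
      show (b : G) * c * (z * (b * c) * z⁻¹) = b * (z * b * z⁻¹) * (c * (z * c * z⁻¹))
      calc (b : G) * c * (z * (b * c) * z⁻¹) = b * (c * (z * b * z⁻¹)) * (z * c * z⁻¹) := by group
        _ = _ := by rw [F.comm c.2 (hstab b b.2)]; group)
  set W := S ⊓ centralizer ({z} : Set G) with hW
  have hker' : f.ker = W.subgroupOf S := by
    ext b
    rw [MonoidHom.mem_ker, mem_subgroupOf, hW, mem_inf, mem_centralizer_singleton_iff]
    show (⟨(b : G) * (z * b * z⁻¹), _⟩ : ↥S) = 1 ↔ _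
    rw [Subtype.ext_iff]
    show (b : G) * (z * b * z⁻¹) = 1 ↔ _
    rw [mul_eq_one_iff_eq_inv', eq_comm]
    constructor
    · intro h
      refine ⟨b.2, ?_⟩
      rw [inv_eq_of_mul_eq_one_right (F.sq hJ.ctr.zz b.2)] at h
      exact (eq_mul_inv_iff_mul_eq.1 h)
    · rintro ⟨-, h⟩
      rw [inv_eq_of_mul_eq_one_right (F.sq hJ.ctr.zz b.2), ← h, mul_inv_cancel_right]
  have hrange : f.range ≤ W.subgroupOf S := by
    rintro _ ⟨b, rfl⟩
    refine mem_subgroupOf.2 ⟨mul_mem b.2 (hstab b b.2), mem_centralizer_singleton_iff.2 ?_⟩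
    show (b : G) * (z * b * z⁻¹) * z = z * ((b : G) * (z * b * z⁻¹))
    have hc := F.comm b.2 (hstab b b.2)
    have hz2 := hJ.ctr.zz
    have hzi : z⁻¹ = z := inv_eq_of_mul_eq_one_right hz2
    rw [hzi] at hc ⊢
    calc (b : G) * (z * b * z) * z = b * z * b * (z * z) := by group
      _ = b * z * b := by rw [hz2, mul_one]
      _ = z * (z * b * z * b) := by
          rw [show z * (z * (b : G) * z * b) = (z * z) * (b * z * b) by group, hz2, one_mul]
      _ = _ := by rw [hc]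
  have hWle : W ≤ S := inf_le_left
  have hWc : 4 ≤ Nat.card ↥W := by
    have h := f.ker.card_mul_index
    rw [index_ker, hker', Nat.card_congr (subgroupOfEquivOfLe hWle).toEquiv, F.card] at h
    have h2 := card_le_of_le hrange
    rw [Nat.card_congr (subgroupOfEquivOfLe hWle).toEquiv] at h2
    by_contra hlt
    have hle : Nat.card ↥W ≤ 3 := by omega
    have h3 : 8 ≤ Nat.card ↥W * Nat.card ↥W := h ▸ Nat.mul_le_mul_left _ h2
    have h4 : Nat.card ↥W ∣ 8 := Dvd.intro _ h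
    interval_cases hk : Nat.card ↥W <;> omega
  obtain ⟨w, hw, hw1, hwa⟩ : ∃ w ∈ W, w ≠ 1 ∧ w ≠ a := by
    by_contra h
    push Not at h
    have hs : (W : Set G) ⊆ {1, a} := fun w hw => by
      by_cases h' : w = 1
      · exact Or.inl h'
      · exact Or.inr (h w hw h')
    have := Set.ncard_le_ncard hs
    rw [← Nat.card_coe_set_eq, SetLike.coe_sort_coe] at this
    have h2 : ({1, a} : Set G).ncard ≤ 2 := (Set.ncard_insert_le _ _).trans (by rw [Set.ncard_singleton])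
    omega
  have hwz : w * z = z * w := mem_centralizer_singleton_iff.1 hw.2
  have haH : a ∈ HH z := mem_HH.2 haz
  have hwH : w ∈ HH z := mem_HH.2 hwz
  obtain ⟨v, hvS, hv1, hvE⟩ : ∃ v, v ∈ S ∧ v ≠ 1 ∧ v ∈ EE z := by
    by_cases hI : Φ ⟨w, hwH⟩ ∈ Cfsg.Inn ↥Cfsg.Spor.M22
    · exact ⟨w, hw.1, hw1, inner w hwH (F.sq hJ.ctr.zz hw.1) (F.comm_x w hw.1) hI⟩
    · refine ⟨a * w, mul_mem F.mem hw.1, fun e => hwa ?_, inner _ (mul_mem haH hwH)
        (F.sq hJ.ctr.zz (mul_mem F.mem hw.1)) (F.comm_x _ (mul_mem F.mem hw.1)) ?_⟩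
      · exact (mul_left_cancel (e.trans (F.sq hJ.ctr.zz F.mem).symm))
      · have hIa : Φ ⟨a, haH⟩ ∉ Cfsg.Inn ↥Cfsg.Spor.M22 := fun h =>
          hne (inner a haH (sq_of_zt hG X ha) hax h)
        rw [show (⟨a * w, mul_mem haH hwH⟩ : ↥(HH z)) = ⟨a, haH⟩ * ⟨w, hwH⟩ from rfl, map_mul,
          mul_mem_iff_of_index_two hidx]
        exact iff_of_false hIa hI
  have hvz := F.zt v hvS hv1
  obtain ⟨S', F'⟩ := exists_five hG X hvz hx (F.comm_x v hvS)
  have hzS' : z ∈ S' := F'.all z (clique X hG hvE hvz (one_mem P)).1 hxz.symm (IsConj.refl z)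
  have haS' : a ∈ S' := F'.all a (F.clq v hvS hv1 a F.mem) hax ha
  exact hne (F'.clq z hzS' hJ.ctr.ne_one a haS')

/-- Commuting conjugates of `z` centralising `x` are related. -/
theorem rel_comm {a y x : G} (hx : orderOf x = 5) (hy : IsConj z y) (hyx : y * x = x * y) (ha : IsConj z a)
    (hax : a * x = x * a) (hay : a * y = y * a) : a ∈ EE y := by
  obtain ⟨g, rfl⟩ := isConj_iff.1 hy
  rw [mem_EE_conj]
  have cj : ∀ {b c : G}, b * c = c * b → g⁻¹ * b * g * (g⁻¹ * c * g) = g⁻¹ * c * g * (g⁻¹ * b * g) := by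
    intro b c h
    calc g⁻¹ * b * g * (g⁻¹ * c * g) = g⁻¹ * (b * c) * g := by group
      _ = _ := by rw [h]; group
  have e : g⁻¹ * (g * z * g⁻¹) * g = z := by group
  have h1 := cj hyx
  have h2 := cj hay
  rw [e] at h1 h2
  exact rel_z hG X (x := g⁻¹ * x * g) (by
    rw [← hx, show g⁻¹ * x * g = MulAut.conj g⁻¹ x by simp, MulEquiv.orderOf_eq]) h1.symm
    (ha.trans (isConj_iff.2 ⟨g⁻¹, by rw [inv_inv]⟩)) h2 (cj hax)

/-- The subgroups of two elements of one of them agree. -/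
theorem Five.eq_of_mem {y x : G} {S : Subgroup G} (F : Five z y x S) (hy1 : y ≠ 1) {a : G} (ha : a ∈ S)
    (ha1 : a ≠ 1) {S' : Subgroup G} (F' : Five z a x S') : S' = S := by
  refine (eq_of_le_of_card_ge (fun b hb => ?_) (by rw [F.card, F'.card])).symm
  by_cases h1 : b = 1
  · rw [h1]; exact one_mem _
  · exact F'.all b (F.clq a ha ha1 b hb) (F.comm_x b hb) (F.zt b hb h1)

theorem Five.mem_of_comm {y x : G} {S : Subgroup G} (F : Five z y x S) (hx : orderOf x = 5) (hy : IsConj z y)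
    {a : G} (ha : IsConj z a) (hax : a * x = x * a) (hay : a * y = y * a) : a ∈ S :=
  F.all a (rel_comm hG X hx hy (F.comm_x y F.mem) ha hax hay) hax ha

end Cfsg.Agent.J4Five
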