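import Cfsg.Agent.Lib.J4V.Inst
import Cfsg.Agent.Lib.J4V.Invol.Main
import Cfsg.Agent.Lib.J4Seven.Fixed
import Cfsg.Agent.Lib.J4Five.Auto

/-!
# Janko four type: the points of `E` fixed by an element of order five

The singular vectors fall into 1386 vectors of the second class and 693 of the class of `z`; counting
modulo five, an element of order five of the normaliser fixes three of each outside and inside the fixed space.
-/

set_option autoImplicit false
set_option linter.style.haveILetI false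
set_option linter.unusedSectionVars false

namespace Cfsg.Agent.J4Five

open Subgroup
open Cfsg.Agent.J4Local
open Cfsg.Agent.J4Eleven (Chart fixV mem_fixV)

universe u

variable {G : Type u} [Group G] [Finite G] {z : G} {P : Subgroup G}

theorem zmod_sum_five : ∀ b : ZMod 2, b + b + b + b + b = b := by decide

/-- The sum over the powers of an automorphism of order dividing five. -/
noncomputable def avg (z q : G) (v : VV z) : VV z :=
  v + act z q v + act z q (act z q v) + act z q (act z q (act z q v)) +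
    act z q (act z q (act z q (act z q v)))

section General

variable (hJ : JType z P) {q : G} (hq : q ∈ HH z) (hq5 : q ^ 5 = 1)

include hJ hq hq5

theorem act_five (v : VV z) : act z q (act z q (act z q (act z q (act z q v)))) = v := by
  rw [← act_mul hq hq, ← act_mul (mul_mem hq hq) hq, ← act_mul (mul_mem (mul_mem hq hq) hq) hq,
    ← act_mul (mul_mem (mul_mem (mul_mem hq hq) hq) hq) hq,
    show q * q * q * q * q = q ^ 5 by simp [pow_succ], hq5, act_one]

theorem avg_fixed (v : VV z) : act z q (avg z q v) = avg z q v := by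
  simp only [avg, map_add]
  rw [act_five hJ hq hq5]
  abel

theorem avg_mem {S : AddSubgroup (VV z)} (hS : ∀ x ∈ S, act z q x ∈ S) {v : VV z} (hv : v ∈ S) :
    avg z q v ∈ S :=
  add_mem (add_mem (add_mem (add_mem hv (hS _ hv)) (hS _ (hS _ hv))) (hS _ (hS _ (hS _ hv))))
    (hS _ (hS _ (hS _ (hS _ hv))))

theorem BB_avg {x v : VV z} (hx : act z q x = x) : BB z x (avg z q v) = BB z x v := by
  have h1 : ∀ w, BB z x (act z q w) = BB z x w := fun w => by
    conv_lhs => rw [← hx]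
    exact BB_act hJ hq x w
  simp only [avg, BB_add_right hJ, h1]
  exact zmod_sum_five _

/-- A fixed vector orthogonal to the fixed vectors of an invariant subgroup is orthogonal to all of it. -/
theorem perp_of_fixed {S : AddSubgroup (VV z)} (hS : ∀ x ∈ S, act z q x ∈ S) {x : VV z} (hx : act z q x = x)
    (h : ∀ w ∈ S, act z q w = w → BB z x w = 0) {v : VV z} (hv : v ∈ S) : BB z x v = 0 := by
  rw [← BB_avg hJ hq hq5 hx]
  exact h _ (avg_mem hJ hq hq5 hS hv) (avg_fixed hJ hq hq5 v)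

/-- Fixed vectors are the images of commuting elements. -/
theorem comm_of_fix {e : G} (he : e ∈ EE z) (h : act z q (vk z e) = vk z e) : q * e = e * q := by
  rw [act_vk hq he] at h
  rcases (vk_eq_vk_iff hJ (conj_mem_EE hq he) he).1 h with r | r
  · exact mul_inv_eq_iff_eq_mul.1 r
  exfalso
  have hz := hJ.ctr.zz
  have hc : q * z * q⁻¹ = z := mul_inv_eq_iff_eq_mul.2 (mem_HH.1 hq)
  have e2 : q ^ 2 * e * (q ^ 2)⁻¹ = e := by
    calc q ^ 2 * e * (q ^ 2)⁻¹ = q * (q * e * q⁻¹) * q⁻¹ := by rw [pow_two]; group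
      _ = q * (e * z) * q⁻¹ := by rw [r]
      _ = (q * e * q⁻¹) * (q * z * q⁻¹) := by group
      _ = e := by rw [r, hc, mul_assoc, hz, mul_one]
  have e5 : q ^ 5 * e * (q ^ 5)⁻¹ = e * z := by
    calc q ^ 5 * e * (q ^ 5)⁻¹ = q ^ 2 * (q ^ 2 * (q * e * q⁻¹) * (q ^ 2)⁻¹) * (q ^ 2)⁻¹ := by
          simp [pow_succ, mul_assoc]
      _ = q ^ 2 * (q ^ 2 * (e * z) * (q ^ 2)⁻¹) * (q ^ 2)⁻¹ := by rw [r]
      _ = q ^ 2 * ((q ^ 2 * e * (q ^ 2)⁻¹) * (q ^ 2 * z * (q ^ 2)⁻¹)) * (q ^ 2)⁻¹ := by group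
      _ = q ^ 2 * (e * z) * (q ^ 2)⁻¹ := by
          rw [e2, show q ^ 2 * z * (q ^ 2)⁻¹ = z from mul_inv_eq_iff_eq_mul.2 (mem_HH.1 (pow_mem hq 2))]
      _ = (q ^ 2 * e * (q ^ 2)⁻¹) * (q ^ 2 * z * (q ^ 2)⁻¹) := by group
      _ = e * z := by
          rw [e2, show q ^ 2 * z * (q ^ 2)⁻¹ = z from mul_inv_eq_iff_eq_mul.2 (mem_HH.1 (pow_mem hq 2))]
  rw [hq5, one_mul, inv_one, mul_one] at e5
  exact hJ.ctr.ne_one (mul_eq_left.1 e5.symm)

/-- Counting modulo five. -/
theorem fixed_count (S : Set (VV z)) (hS : ∀ v ∈ S, act z q v ∈ S) :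
    S.ncard ≡ {v | v ∈ S ∧ act z q v = v}.ncard [MOD 5] := by
  haveI : Fact (Nat.Prime 5) := ⟨by norm_num⟩
  let f : ↥S → ↥S := fun v => ⟨act z q v, hS v v.2⟩
  have h := J4Seven.card_fixed_modEq (p := 5) f fun v => Subtype.ext (act_five hJ hq hq5 (v : VV z))
  rw [Nat.card_coe_set_eq] at h
  refine h.trans (congrArg (· % 5) ?_)
  rw [← Nat.card_coe_set_eq]
  exact Nat.card_congr
    { toFun := fun v => ⟨v.1.1, v.1.2, congrArg Subtype.val v.2⟩
      invFun := fun v => ⟨⟨v.1, v.2.1⟩, Subtype.ext v.2.2⟩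
      left_inv := fun v => rfl
      right_inv := fun v => rfl }

end General

variable [IsSimpleGroup G] (X : Chart z P) (hG : ¬ IsMulCommutative G)

include hG in
theorem exists_model : Nonempty (J4V.Invol.Model X) := by
  obtain ⟨φ, ε, h1, h2, h3, h4, h5⟩ := X.exists_phi_eps hG
  exact J4V.Invol.exists_model hG ⟨φ, ε, h1, h2, h3, h4, h5⟩

/-- The non-zero vectors with a lift conjugate to `z`. -/
def ZE (z : G) : Set (VV z) := {v | v ≠ 0 ∧ ∃ y ∈ EE z, vk z y = v ∧ IsConj z y}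

include X hG

/-- Every singular vector is conjugate into the fixed space. -/
theorem singular_U0 {v : VV z} (hv : QQ z v = 0) : v ∈ X.U0 := by
  obtain ⟨M⟩ := exists_model X hG
  obtain ⟨x, hx, rfl⟩ := vk_surj v
  obtain ⟨c, hc, e⟩ := M.exists_code hG hx
  rcases Nat.lt_or_ge c 64 with h | h
  · exact ⟨1, one_mem _, by rw [act_one, ← e]; exact (M.elt_WV_iff hG hc).2 h⟩
  have hsq : M.elt c * M.elt c = 1 := (QQ_vk_eq_zero X.L.J (M.elt_EE hG hc)).1 (e.symm ▸ hv)
  have hs : J4V.Invol.Checks.sing c = true := by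
    simp only [J4V.Invol.Checks.sing, Bool.and_eq_true, Nat.ble_eq, Nat.blt_eq]
    exact ⟨⟨h, hc⟩, by rw [(M.elt_sq hc).1 hsq]; exact Nat.beq_refl _⟩
  exact e ▸ M.all_singular hG hc hs

theorem QQ_of_U0 {v : VV z} (hv : v ∈ X.U0) : QQ z v = 0 := by
  obtain ⟨d, hd, h⟩ := hv
  rw [← QQ_act X.L.J hd.1 v]
  exact X.QQ_WV h

theorem singular_ncard : {v : VV z | QQ z v = 0}.ncard = 2080 := by
  have hJ := X.L.J
  obtain ⟨h3, hsq⟩ := J4Seven.zero_count hJ (⊤ : AddSubgroup (VV z))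
    (fun a _ ha => BB_nondeg hJ fun w => ha w (AddSubgroup.mem_top w)) fun p _ a _ => AddSubgroup.mem_top _
  have e : Nat.card {a : ↥(⊤ : AddSubgroup (VV z)) // QQ z (a : VV z) = 0} = {v : VV z | QQ z v = 0}.ncard := by
    rw [← Nat.card_coe_set_eq]
    exact Nat.card_congr
      { toFun := fun a => ⟨a.1.1, a.2⟩
        invFun := fun a => ⟨⟨a.1, AddSubgroup.mem_top _⟩, a.2⟩
        left_inv := fun a => rfl
        right_inv := fun a => rfl }
  rw [e] at h3 hsq
  rw [AddSubgroup.card_top, card_VV hJ] at hsq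
  set n := {v : VV z | QQ z v = 0}.ncard
  have h1 : (2 * (n : ℤ) - 4096 - 64) * (2 * (n : ℤ) - 4096 + 64) = 0 := by push_cast at hsq; nlinarith
  rcases mul_eq_zero.1 h1 with h | h
  · omega
  · omega

/-- An element of `E` conjugate to `z` is moved by `C` to a lift of degree three. -/
theorem exists_move {y : G} (hy : y ∈ EE z) (hz : IsConj z y) (h0 : vk z y ≠ 0) :
    ∃ d ∈ CC z P, d * y * d⁻¹ ∈ preV X.L.J X.WV ∧ vk z (d * y * d⁻¹) ∈ X.threes := by
  have hJ := X.L.J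
  have h2 : y * y = 1 := by
    obtain ⟨g, rfl⟩ := isConj_iff.1 hz
    rw [conj_mul, hJ.ctr.zz, mul_one, mul_inv_cancel]
  obtain ⟨d, hd, hdW⟩ := singular_U0 X hG ((QQ_vk_eq_zero hJ hy).2 h2)
  rw [act_vk hd.1 hy] at hdW
  have hm : d * y * d⁻¹ ∈ preV X.L.J X.WV := ⟨conj_mem_EE hd.1 hy, hdW⟩
  refine ⟨d, hd, hm, hdW, fun e => h0 ?_, ?_⟩
  · rw [← act_vk hd.1 hy] at e
    exact act_injective hd.1 (e.trans (map_zero _).symm)
  · have hne : vk z (d * y * d⁻¹) ≠ 0 := fun e => h0 (by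
      rw [← act_vk hd.1 hy] at e
      exact act_injective hd.1 (e.trans (map_zero _).symm))
    rcases X.deg_cases hdW hne with h | h
    · exact h
    · exact absurd (hz.trans (isConj_iff.2 ⟨d, rfl⟩)) (X.not_zt_five hG hm ⟨hdW, hne, h⟩)

theorem conj_d_iff {d y : G} (hd : d ∈ HH z) : IsConj z (d * y * d⁻¹) ↔ IsConj z y :=
  ⟨fun h => h.trans (isConj_iff.2 ⟨d, rfl⟩).symm, fun h => h.trans (isConj_iff.2 ⟨d, rfl⟩)⟩

theorem ZE_eq {w' : VV z} (hw' : w' ∈ X.threes) : ZE z = Chart.orb z P w' := by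
  have hJ := X.L.J
  ext v
  constructor
  · rintro ⟨h0, y, hy, rfl, hz⟩
    obtain ⟨d, hd, -, h3⟩ := exists_move X hG hy hz h0
    obtain ⟨c, hc, e⟩ := (X.threes_orb hw').symm ▸ h3
    refine ⟨d⁻¹ * c, mul_mem (inv_mem hd) (X.NC_le hc), ?_⟩
    rw [act_mul (inv_mem hd.1) (X.NC_le_HH hc), e, ← act_vk hd.1 hy, act_inv_act hd.1]
  · rintro ⟨c, hc, rfl⟩
    obtain ⟨x, hx, rfl⟩ := vk_surj w'
    have hz := (X.params hG).2.2.1 x ⟨hx, hw'.1⟩ hw'.2.1 hw'.2.2
    refine ⟨fun e => hw'.2.1 (act_injective hc.1 (e.trans (map_zero _).symm)), c * x * c⁻¹, conj_mem_EE hc.1 hx,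
      (act_vk hc.1 hx).symm, (conj_d_iff X hG hc.1).2 hz⟩

/-- Both lifts of such a vector are conjugate to `z`. -/
theorem ZE_lift {y : G} (hy : y ∈ EE z) (h : vk z y ∈ ZE z) : IsConj z y := by
  obtain ⟨h0, x, hx, e, hz⟩ := h
  obtain ⟨d, hd, hm, h3⟩ := exists_move X hG hx hz (e.symm ▸ h0)
  rw [← act_vk hd.1 hx, e, act_vk hd.1 hy] at h3
  exact (conj_d_iff X hG hd.1).1 ((X.params hG).2.2.1 _ ⟨conj_mem_EE hd.1 hy, h3.1⟩ h3.2.1 h3.2.2)

theorem ZE_act {c : G} (hc : c ∈ HH z) {v : VV z} (hv : v ∈ ZE z) : act z c v ∈ ZE z := by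
  obtain ⟨h0, x, hx, rfl, hz⟩ := hv
  exact ⟨fun e => h0 (act_injective hc (e.trans (map_zero _).symm)), c * x * c⁻¹, conj_mem_EE hc hx,
    (act_vk hc hx).symm, (conj_d_iff X hG hc).2 hz⟩

theorem five_not_ZE {v : VV z} (hv : v ∈ X.five) : v ∉ ZE z := fun h => by
  obtain ⟨x, hx, rfl⟩ := vk_surj v
  exact X.not_zt_five hG ⟨hx, hv.1⟩ hv (ZE_lift X hG hx h)

theorem ZE_ncard : (ZE z).ncard = 693 := by
  obtain ⟨w, hw⟩ := Set.nonempty_of_ncard_ne_zero (show X.five.ncard ≠ 0 by rw [X.five_ncard]; omega)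
  obtain ⟨w', hw'⟩ := Set.nonempty_of_ncard_ne_zero (show X.threes.ncard ≠ 0 by rw [X.threes_ncard]; omega)
  have hdis : Disjoint (Chart.orb z P w) (Chart.orb z P w') := Set.disjoint_left.2 fun v h h' =>
    X.five_not_three hw hw' (by rw [← X.orb_eq h, X.orb_eq h']; exact X.mem_orb_self w')
  have e : X.U0 = {v : VV z | QQ z v = 0} :=
    Set.ext fun v => ⟨fun h => QQ_of_U0 X hG h, fun h => singular_U0 X hG h⟩
  have h1 : (X.U0 \ {0}).ncard = 2079 := by
    rw [Set.ncard_sdiff_singleton_of_mem (show (0 : VV z) ∈ X.U0 from ⟨1, one_mem _, by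
      rw [act_one]; exact zero_mem _⟩), e, singular_ncard X hG]
  rw [X.U0_split hw hw', Set.ncard_union_eq hdis, X.orb_five hw, ← ZE_eq X hG hw'] at h1
  omega

omit hG in
/-- An element of order five of the normaliser in `C`. -/
theorem exists_q : ∃ q ∈ X.NC, orderOf q = 5 := by
  haveI : Fact (Nat.Prime 5) := ⟨by norm_num⟩
  obtain ⟨g, hg, ho⟩ := X.exists_five_NS
  obtain ⟨d, hd, hdN, e⟩ := X.exists_NC hg
  have h5 : 5 ∣ orderOf (⟨d, hd⟩ : ↥(CC z P)) := ho ▸ e ▸ orderOf_map_dvd X.π ⟨d, hd⟩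
  rw [Subgroup.orderOf_mk] at h5
  obtain ⟨k, hk⟩ := h5
  refine ⟨d ^ k, pow_mem hdN k, ?_⟩
  have hk0 : k ≠ 0 := fun h => (orderOf_pos d).ne' (by rw [hk, h, mul_zero])
  rw [orderOf_pow' d hk0, hk, Nat.gcd_mul_left_left, Nat.mul_div_cancel _ (Nat.pos_of_ne_zero hk0)]

variable {q : G} (hqN : q ∈ X.NC) (hq : orderOf q = 5)

include hqN hq

/-- The fixed points of an element of order five of the normaliser. -/
theorem fixed_facts :
    Nat.card ↥(fixV z ({q} : Set G)) = 16 ∧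
    (∀ a ∈ fixV z ({q} : Set G), (∀ b ∈ fixV z ({q} : Set G), BB z a b = 0) → a = 0) ∧
    Nat.card ↥(fixV z ({q} : Set G) ⊓ X.WV) = 4 ∧
    (∀ v ∈ fixV z ({q} : Set G) ⊓ X.WV, v ≠ 0 → v ∈ X.five) ∧
    {v | v ∈ ZE z ∧ act z q v = v}.ncard = 3 := by
  classical
  have hJ := X.L.J
  have hqC := X.NC_le hqN
  have hqH := hqC.1
  have hq5 : q ^ 5 = 1 := hq ▸ pow_orderOf_eq_one q
  set F := fixV z ({q} : Set G) with hF
  have hFm : ∀ {v}, v ∈ F ↔ act z q v = v := fun {v} => ⟨fun h => h q rfl, fun h c hc => by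
    rw [Set.mem_singleton_iff] at hc; exact hc ▸ h⟩
  have hWq : ∀ x ∈ X.WV, act z q x ∈ X.WV := fun x hx => X.NC_WV hqN hx
  set W0 := F ⊓ X.WV with hW0
  have hFdvd : Nat.card ↥F ∣ 2 ^ 12 := card_VV hJ ▸ AddSubgroup.card_addSubgroup_dvd_card F
  have hWdvd : Nat.card ↥W0 ∣ 2 ^ 6 := X.card_WV.1 ▸ AddSubgroup.card_dvd_of_le inf_le_right
  have hWmod : 64 ≡ Nat.card ↥W0 [MOD 5] := by
    have h := fixed_count hJ hqH hq5 (X.WV : Set (VV z)) hWq
    rw [← Nat.card_coe_set_eq, SetLike.coe_sort_coe, X.card_WV.1] at h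
    refine h.trans (congrArg (· % 5) ?_)
    rw [← Nat.card_coe_set_eq]
    exact Nat.card_congr (Equiv.subtypeEquivRight fun v => ⟨fun h => ⟨hFm.2 h.2, h.1⟩, fun h => ⟨h.2, hFm.1 h.1⟩⟩)
  have hW4 : Nat.card ↥W0 = 4 := by
    obtain ⟨k, hk, hk'⟩ := (Nat.dvd_prime_pow Nat.prime_two).1 hWdvd
    rw [hk'] at hWmod ⊢
    interval_cases k <;> first | rfl | (exact absurd hWmod (by decide)) | skip
    exfalso
    have hWall : ∀ x ∈ X.WV, act z q x = x := fun x hx => by
      have e : W0 = X.WV := AddSubgroup.eq_of_le_of_card_ge inf_le_right (by rw [hk', X.card_WV.1])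
      exact hFm.1 (e.symm ▸ hx : x ∈ W0).1
    have hall : ∀ v, act z q v = v := fun v => by
      have hd : act z q v + v ∈ X.WV := by
        rw [← X.card_WV.2, mem_perp]
        intro w hw
        rw [BB_add_left hJ]
        conv_lhs => enter [1]; rw [← hWall w hw]
        rw [BB_act hJ hqH, CharTwo.add_self_eq_zero]
      have e1 : act z q v = v + (act z q v + v) := by
        rw [add_comm (act z q v) v, ← add_assoc, VV.two hJ, zero_add]
      have h5 := act_five hJ hqH hq5 v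
      set w := act z q v + v
      simp only [e1, map_add, hWall w hd] at h5
      have h0 : w + w + w + w + w = 0 := by
        apply add_left_cancel (a := v)
        rw [add_zero]
        simpa [add_assoc] using h5
      rw [VV.two hJ, zero_add, VV.two hJ, zero_add] at h0
      rw [e1, h0, add_zero]
    have hcent : ∀ e ∈ EE z, e * q = q * e := fun e he => (comm_of_fix hJ hqH hq5 he (hall _)).symm
    have hqE := hJ.cent_le hqH hcent
    have h := (EE z).orderOf_dvd_natCard hqE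
    rw [hq, hJ.cardE] at h
    norm_num at h
  have hFle : Nat.card ↥F ≤ 16 := by
    obtain ⟨a, ha, b, hb, hab⟩ : ∃ a ∈ W0, ∃ b ∈ W0, ∀ w ∈ W0, w = 0 ∨ w = a ∨ w = b ∨ w = a + b := by
      obtain ⟨a, ha, ha0⟩ : ∃ a ∈ W0, a ≠ 0 := by
        by_contra h
        push Not at h
        rw [(AddSubgroup.eq_bot_iff_forall _).2 h, AddSubgroup.card_bot] at hW4
        omega
      obtain ⟨b, hb, hb0⟩ : ∃ b ∈ W0, b ≠ 0 ∧ b ≠ a := by
        by_contra h
        push Not at h
        have hs : (W0 : Set (VV z)) ⊆ {0, a} := fun w hw => by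
          by_cases h' : w = 0
          · exact Or.inl h'
          · exact Or.inr (h w hw h')
        have := Set.ncard_le_ncard hs
        rw [← Nat.card_coe_set_eq, SetLike.coe_sort_coe, hW4, Set.ncard_pair (Ne.symm ha0)] at this
        omega
      refine ⟨a, ha, b, hb, fun w hw => ?_⟩
      have hs : ({0, a, b, a + b} : Set (VV z)) ⊆ W0 := by
        simp only [Set.insert_subset_iff, Set.singleton_subset_iff, SetLike.mem_coe]
        exact ⟨zero_mem _, ha, hb, add_mem ha hb⟩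
      have hab0 : a + b ≠ 0 := fun e => hb0.2 (VV.eq_of_add hJ e).symm
      have hc : ({0, a, b, a + b} : Set (VV z)).ncard = 4 := by
        rw [Set.ncard_eq_toFinset_card', Set.toFinset_insert, Set.toFinset_insert, Set.toFinset_insert,
          Set.toFinset_singleton, Finset.card_insert_of_notMem (by simp [Ne.symm ha0, Ne.symm hb0.1, Ne.symm hab0]),
          Finset.card_insert_of_notMem (by simp [Ne.symm hb0.2, hb0.1]),
          Finset.card_insert_of_notMem (by simp [ha0]), Finset.card_singleton]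
      have := Set.eq_of_subset_of_ncard_le hs (by rw [hc, ← Nat.card_coe_set_eq, SetLike.coe_sort_coe, hW4])
      simpa using (Set.ext_iff.1 this w).2 hw
    let f : ↥F →+ ZMod 2 × ZMod 2 := AddMonoidHom.mk' (fun v => (BB z v a, BB z v b))
      fun u v => Prod.ext (BB_add_left hJ _ _ _) (BB_add_left hJ _ _ _)
    have hk : Nat.card ↥f.ker ≤ Nat.card ↥W0 := by
      refine Nat.card_le_card_of_injective (fun v => ⟨v.1.1, v.1.2, ?_⟩) fun u v e =>
        Subtype.ext (Subtype.ext (congrArg Subtype.val e :))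
      obtain ⟨v, hv⟩ := v
      show (v : VV z) ∈ X.WV
      rw [← X.card_WV.2, mem_perp]
      intro w hw
      refine perp_of_fixed hJ hqH hq5 hWq (hFm.1 v.2) (fun w hw hfix => ?_) hw
      have h1 : BB z (v : VV z) a = 0 := congrArg Prod.fst hv
      have h2 : BB z (v : VV z) b = 0 := congrArg Prod.snd hv
      rcases hab w ⟨hFm.2 hfix, hw⟩ with rfl | rfl | rfl | rfl
      exacts [BB_zero_right hJ _, h1, h2, by rw [BB_add_right hJ, h1, h2, add_zero]]
    have h := f.ker.card_mul_index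
    rw [AddSubgroup.index_ker] at h
    have hr : Nat.card ↥f.range ≤ 4 := by
      have := AddSubgroup.card_le_card_addGroup f.range
      rwa [Nat.card_prod, Nat.card_zmod] at this
    rw [← h]
    calc Nat.card ↥f.ker * Nat.card ↥f.range ≤ 4 * 4 := Nat.mul_le_mul (hk.trans hW4.le) hr
      _ = 16 := rfl
  have hFmod : 4096 ≡ Nat.card ↥F [MOD 5] := by
    have h := fixed_count hJ hqH hq5 Set.univ fun v _ => Set.mem_univ _
    rw [Set.ncard_univ, card_VV hJ] at h
    refine h.trans (congrArg (· % 5) ?_)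
    rw [← Nat.card_coe_set_eq]
    exact Nat.card_congr (Equiv.subtypeEquivRight fun v => ⟨fun h => hFm.2 h.2, fun h => ⟨trivial, hFm.1 h⟩⟩)
  have hF16 : Nat.card ↥F = 16 := by
    have h4 : Nat.card ↥W0 ≤ Nat.card ↥F := AddSubgroup.card_le_of_le inf_le_left
    obtain ⟨k, hk, hk'⟩ := (Nat.dvd_prime_pow Nat.prime_two).1 hFdvd
    rw [hk'] at hFmod hFle h4 ⊢
    interval_cases k <;> first | rfl | (exact absurd hFmod (by decide)) | omega
  have hnd : ∀ a ∈ F, (∀ b ∈ F, BB z a b = 0) → a = 0 := fun a ha h => BB_nondeg hJ fun w =>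
    perp_of_fixed hJ hqH hq5 (S := ⊤) (fun x _ => AddSubgroup.mem_top _) (hFm.1 ha)
      (fun w _ hw => h w (hFm.2 hw)) (AddSubgroup.mem_top w)
  -- the fixed vectors of degree five
  have hfive : ∀ v ∈ W0, v ≠ 0 → v ∈ X.five := by
    have h5 := fixed_count hJ hqH hq5 X.five fun v hv => X.five_conj hqN hv
    rw [X.five_ncard] at h5
    have hsub : {v | v ∈ X.five ∧ act z q v = v} ⊆ (W0 : Set (VV z)) \ {0} := fun v hv =>
      ⟨⟨hFm.2 hv.2, hv.1.1⟩, hv.1.2.1⟩
    have h3 : ((W0 : Set (VV z)) \ {0}).ncard = 3 := by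
      rw [Set.ncard_sdiff_singleton_of_mem (zero_mem W0), ← Nat.card_coe_set_eq, SetLike.coe_sort_coe, hW4]
    have hle := Set.ncard_le_ncard hsub
    rw [h3] at hle
    have heq := Set.eq_of_subset_of_ncard_le hsub (by
      rw [h3]
      by_contra hlt
      simp only [Nat.ModEq] at h5
      omega)
    exact fun v hv hv0 => ((Set.ext_iff.1 heq v).2 ⟨hv, hv0⟩).1
  refine ⟨hF16, hnd, hW4, hfive, ?_⟩
  have hP : ∀ p ∈ P, ∀ a ∈ F, act z p a ∈ F := fun p hp a ha => hFm.2 (by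
    rw [← act_mul hqH (hJ.P_le_HH hp), commute_CC_P hqC hp, act_mul (hJ.P_le_HH hp) hqH, hFm.1 ha])
  obtain ⟨h3, hsq⟩ := J4Seven.zero_count hJ F hnd hP
  set n0 := Nat.card {a : ↥F // QQ z (a : VV z) = 0}
  have h10 : n0 = 10 := by
    rw [hF16] at hsq
    have h1 : (2 * (n0 : ℤ) - 16 - 4) * (2 * (n0 : ℤ) - 16 + 4) = 0 := by push_cast at hsq; nlinarith
    rcases mul_eq_zero.1 h1 with h | h <;> omega
  set T := {v | v ∈ ZE z ∧ act z q v = v} with hT
  have hTmod := fixed_count hJ hqH hq5 (ZE z) fun v hv => ZE_act X hG hqH hv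
  rw [ZE_ncard X hG] at hTmod
  have hTle : T.ncard + 4 ≤ 10 := by
    have hd : Disjoint T (W0 : Set (VV z)) := Set.disjoint_left.2 fun v hv hw => by
      exact five_not_ZE X hG (hfive v hw hv.1.1) hv.1
    have hs : T ∪ (W0 : Set (VV z)) ⊆ {v | v ∈ F ∧ QQ z v = 0} := by
      rintro v (⟨⟨h0, y, hy, rfl, hz⟩, hf⟩ | hv)
      · refine ⟨hFm.2 hf, (QQ_vk_eq_zero hJ hy).2 ?_⟩
        obtain ⟨g, rfl⟩ := isConj_iff.1 hz
        rw [conj_mul, hJ.ctr.zz, mul_one, mul_inv_cancel]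
      · exact ⟨hv.1, X.QQ_WV hv.2⟩
    have h := Set.ncard_le_ncard hs
    rw [Set.ncard_union_eq hd, ← Nat.card_coe_set_eq (W0 : Set (VV z)), SetLike.coe_sort_coe, hW4] at h
    refine h.trans (le_of_eq ?_)
    rw [← h10, ← Nat.card_coe_set_eq]
    exact Nat.card_congr
      { toFun := fun v => ⟨⟨v.1, v.2.1⟩, v.2.2⟩
        invFun := fun v => ⟨v.1.1, v.1.2, v.2⟩
        left_inv := fun v => rfl
        right_inv := fun v => rfl }
  simp only [Nat.ModEq, ← hT] at hTmod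
  omega

end Cfsg.Agent.J4Five
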