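import Cfsg.Agent.Lib.J4Five.Fixed

/-!
# Janko four type: a point of `E` conjugate to `z` lies in the `E` of its multiples

In the subgroup of order `2 ^ 11` seen as the even cocode the three vectors on such a point are sums of pairs
of two tetrads, and suitable pairs lie in the `E` of each.
-/

set_option autoImplicit false
set_option linter.style.haveILetI false
set_option linter.unusedSectionVars false

namespace Cfsg.Agent.J4Five

open Subgroup
open Cfsg.Agent.J4Local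
open Cfsg.Agent.J4Eleven (Chart)
open Cfsg.Agent.J4V.Points (Data Pt)

section Abstract

variable {W : Type*} [AddCommGroup W] [Fintype W] [DecidableEq W] (A : Data W)

theorem share {a b c d : Pt A} (hab : a ≠ b) (hcd : c ≠ d) (h : A.e a b + A.e c d ∈ A.D) :
    a = c ∨ a = d ∨ b = c ∨ b = d := by
  by_contra hn
  push Not at hn
  exact A.disj_pairs hab hcd hn.1 hn.2.1 hn.2.2.1 hn.2.2.2 h

theorem ne_of_e_mem {a b : Pt A} (h : A.e a b ∈ A.D) : a ≠ b := fun e => A.zero (by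
  rw [e, A.e_self] at h; exact h)

theorem quad {zv u u' : W} (hz0 : zv ≠ 0) (hzD : zv ∉ A.D) (hu : u ∈ A.D) (hu' : u' ∈ A.D)
    (huu : u + u' ∈ A.D) (hz : u + zv ∈ A.D) (hz' : u' + zv ∈ A.D) :
    ∃ a b c d : Pt A, u = A.e a b ∧ u + zv = A.e c d ∧ u' = A.e a c := by
  obtain ⟨s0, t0, hst0, rfl, -⟩ := A.exists_e hu
  obtain ⟨s, t, hst, rfl, -⟩ := A.exists_e hu'
  obtain ⟨a, b, m, h1, h2, hab⟩ : ∃ a b m : Pt A, A.e s0 t0 = A.e a b ∧ A.e s t = A.e a m ∧ a ≠ b := by
    rcases share A hst0 hst huu with r | r | r | r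
    · exact ⟨s0, t0, t, rfl, by rw [r], hst0⟩
    · exact ⟨s0, t0, s, rfl, by rw [r, A.e_comm], hst0⟩
    · exact ⟨t0, s0, t, A.e_comm _ _, by rw [r], Ne.symm hst0⟩
    · exact ⟨t0, s0, s, A.e_comm _ _, by rw [r, A.e_comm], Ne.symm hst0⟩
  rw [h1, h2] at huu ⊢
  rw [h1] at hz
  rw [h2] at hz'
  rw [A.e_add] at huu
  obtain ⟨c, d, hcd, he, -⟩ := A.exists_e hz
  have hzv : zv = A.e a b + A.e c d := by rw [he, A.cancel]
  have h3 : A.e b m + A.e c d ∈ A.D := by
    convert hz' using 1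
    rw [hzv, ← add_assoc, add_comm (A.e a m), A.e_add]
  have hbad : ∀ d', A.e c d = A.e b d' → False := fun d' e' => by
    have hz'' : zv = A.e a d' := by rw [hzv, e', A.e_comm a b, A.e_add]
    by_cases h : a = d'
    · exact hz0 (by rw [hz'', h, A.e_self])
    · exact hzD (hz'' ▸ A.e_mem_D h)
  rcases share A (ne_of_e_mem A huu) hcd h3 with r | r | r | r
  · exact absurd (by rw [r]) (hbad d)
  · exact absurd (by rw [r, A.e_comm]) (hbad c)
  · exact ⟨a, b, c, d, rfl, he.symm, by rw [r]⟩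
  · exact ⟨a, b, d, c, rfl, he.symm.trans (A.e_comm c d), by rw [r]⟩

/-- Two sums of pairs of the same two tetrads have a pair of the first and of both. -/
theorem cross {zv u u' v v' : W} (hz0 : zv ≠ 0) (hzD : zv ∉ A.D)
    (hu : u ∈ A.D) (hu' : u' ∈ A.D) (huu : u + u' ∈ A.D) (hz : u + zv ∈ A.D) (hz' : u' + zv ∈ A.D)
    (hv : v ∈ A.D) (hv' : v' ∈ A.D) (hvv : v + v' ∈ A.D) (hvz : v + zv ∈ A.D) (hvz' : v' + zv ∈ A.D)
    (hy : u + v ∉ A.D) (hy0 : u + v ≠ 0) (hy' : u' + v' ∉ A.D) (hy0' : u' + v' ≠ 0) :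
    ∃ x ∈ A.D, x + (u + v) ∈ A.D ∧ x + (u' + v') ∈ A.D ∧ x + (u' + v') + (u + v) ∈ A.D := by
  obtain ⟨a, b, c, d, e1, e2, e3⟩ := quad A hz0 hzD hu hu' huu hz hz'
  obtain ⟨p, q, r, s, f1, f2, f3⟩ := quad A hz0 hzD hv hv' hvv hvz hvz'
  have bad : ∀ {i j : Pt A} {y : W}, y = A.e i j → y ∉ A.D → y ≠ 0 → False := fun {i j y} e h h0 => by
    by_cases hij : i = j
    · exact h0 (by rw [e, hij, A.e_self])
    · exact h (e ▸ A.e_mem_D hij)
  have huv : u + v = A.e c d + A.e r s := by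
    rw [← e2, ← f2]
    calc u + v = u + v + (zv + zv) := by rw [A.two, add_zero]
      _ = _ := by abel
  have hap : a ≠ p := fun e => bad (y := u + v) (i := b) (j := q)
    (by rw [e1, f1, e, A.e_add]) hy hy0
  have hbq : b ≠ q := fun e => bad (y := u + v) (i := a) (j := p)
    (by rw [e1, f1, e, A.e_comm a q, A.e_comm p q, A.e_add]) hy hy0
  have hcr : c ≠ r := fun e => bad (y := u' + v') (i := a) (j := p)
    (by rw [e3, f3, e, A.e_comm a r, A.e_comm p r, A.e_add]) hy' hy0'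
  have hds : d ≠ s := fun e => bad (y := u + v) (i := c) (j := r)
    (by rw [huv, e, A.e_comm c s, A.e_comm r s, A.e_add]) hy hy0
  have h1 : A.e a p + (u + v) = A.e b q := by
    rw [e1, f1, ← add_assoc, A.e_add a p b, A.e_add p b q]
  have h2 : A.e a p + (u' + v') = A.e c r := by
    rw [e3, f3, ← add_assoc, A.e_add a p c, A.e_add p c r]
  have h3 : A.e a p + (u' + v') + (u + v) = A.e d s := by
    rw [h2, huv, ← add_assoc, A.e_add c r d, A.e_add r d s]
  exact ⟨A.e a p, A.e_mem_D hap, h1 ▸ A.e_mem_D hbq, h2 ▸ A.e_mem_D hcr, h3 ▸ A.e_mem_D hds⟩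

end Abstract

variable {G : Type*} [Group G] [Finite G] {z : G} {P : Subgroup G} [IsSimpleGroup G] (X : Chart z P)
  (hG : ¬ IsMulCommutative G)

include X hG

/-- The pair lemma in the group. -/
theorem cross_std {u u' v v' : G} (hu : u ∈ X.DD) (hu' : u' ∈ X.DD) (huu : u * u' ∈ X.DD) (hz : u * z ∈ X.DD)
    (hz' : u' * z ∈ X.DD) (hv : v ∈ X.DD) (hv' : v' ∈ X.DD) (hvv : v * v' ∈ X.DD) (hvz : v * z ∈ X.DD)
    (hvz' : v' * z ∈ X.DD) (hy : IsConj z (u * v)) (hy' : IsConj z (u' * v')) :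
    ∃ x ∈ X.DD, x * (u * v) ∈ X.DD ∧ x * (u' * v') ∈ X.DD ∧ x * (u' * v') * (u * v) ∈ X.DD := by
  classical
  have hV := X.std_eleven
  letI : CommGroup ↥X.std :=
    { (inferInstance : Group ↥X.std) with mul_comm := fun a b => Subtype.ext (hV.comm a a.2 b b.2) }
  haveI : Fintype (Additive ↥X.std) := Fintype.ofFinite _
  let val : Additive ↥X.std → G := fun w => ((Additive.toMul w : ↥X.std) : G)
  have val_inj : Function.Injective val := fun a b h => Additive.toMul.injective (Subtype.ext h)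
  have val_mem : ∀ w, val w ∈ X.std := fun w => (Additive.toMul w : ↥X.std).2
  have val_sur : ∀ g ∈ X.std, ∃ w, val w = g := fun g hg => ⟨Additive.ofMul ⟨g, hg⟩, rfl⟩
  have val_add : ∀ a b, val (a + b) = val a * val b := fun a b => rfl
  have val_zero : val 0 = 1 := rfl
  have hcount : ∀ (p : G → Prop), (∀ g, p g → g ∈ X.std) →
      (Finset.univ.filter fun w => p (val w)).card = {g | p g}.ncard := by
    intro p hp
    rw [← Set.ncard_coe_finset, ← Set.ncard_image_of_injective _ val_inj]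
    congr 1
    ext g
    simp only [Finset.coe_filter, Finset.mem_univ, true_and, Set.mem_image, Set.mem_ofPred_eq]
    exact ⟨fun ⟨w, hw, e⟩ => e ▸ hw, fun h => (val_sur g (hp g h)).elim fun w e => ⟨w, e ▸ h, e⟩⟩
  set D : Finset (Additive ↥X.std) := Finset.univ.filter fun w => val w ∈ X.DD with hDdef
  have memD : ∀ w, w ∈ D ↔ val w ∈ X.DD := fun w => by simp [hDdef]
  have zt_of : ∀ w, w ≠ 0 → w ∉ D → IsConj z (val w) := by
    intro w h0 hD
    by_contra h
    exact hD ((memD w).2 ⟨val_mem w, fun e => h0 (val_inj (e.trans val_zero.symm)), h⟩)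
  let cj : ↥(normalizer (X.std : Set G)) → Additive ↥X.std ≃+ Additive ↥X.std := fun n =>
    { toFun := fun w => Additive.ofMul
        ⟨(n : G) * val w * (n : G)⁻¹, M22Order.conj_mem_of_mem_normalizer n.2 (val_mem w)⟩
      invFun := fun w => Additive.ofMul
        ⟨(n : G)⁻¹ * val w * (n : G)⁻¹⁻¹, M22Order.conj_mem_of_mem_normalizer (inv_mem n.2) (val_mem w)⟩
      left_inv := fun w => val_inj (by simp [val, mul_assoc])
      right_inv := fun w => val_inj (by simp [val, mul_assoc])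
      map_add' := fun a b => val_inj (by
        show (n : G) * val (a + b) * (n : G)⁻¹ = (n : G) * val a * (n : G)⁻¹ * ((n : G) * val b * (n : G)⁻¹)
        rw [val_add]; group) }
  let A : Data (Additive ↥X.std) :=
    { D := D
      two := fun w => val_inj (by rw [val_add, val_zero]; exact hV.sq _ (val_mem w))
      cardW := by
        rw [← Nat.card_eq_fintype_card, Nat.card_congr (Additive.toMul), hV.card]; norm_num
      cardD := (hcount (fun g => g ∈ X.DD) fun g h => h.1).trans (X.others_ncard hG)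
      zero := fun h => ((memD 0).1 h).2.1 val_zero
      gen := by
        rw [eq_top_iff]
        intro w _
        have h := val_mem w
        rw [← X.closure_DD hG] at h
        have key : ∀ g ∈ Subgroup.closure X.DD, ∀ w, val w = g →
            w ∈ AddSubgroup.closure (D : Set (Additive ↥X.std)) := by
          intro g hg
          induction hg using Subgroup.closure_induction with
          | mem x hx => exact fun w e => AddSubgroup.subset_closure ((memD w).2 (e ▸ hx))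
          | one => exact fun w e => (val_inj (e.trans val_zero.symm)) ▸ zero_mem _
          | mul a b ha hb iha ihb =>
            intro w e
            have ha' : a ∈ X.std := X.closure_DD hG ▸ ha
            have hb' : b ∈ X.std := X.closure_DD hG ▸ hb
            obtain ⟨a', rfl⟩ := val_sur a ha'
            obtain ⟨b', rfl⟩ := val_sur b hb'
            rw [val_inj (e.trans (val_add a' b').symm)]
            exact add_mem (iha a' rfl) (ihb b' rfl)
          | inv a ha iha =>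
            intro w e
            refine iha w ?_
            rw [e]
            exact inv_eq_of_mul_eq_one_right (hV.sq a (X.closure_DD hG ▸ ha))
        exact key _ h w rfl
      trans := by
        intro d hd d' hd'
        obtain ⟨h1, h2, h3⟩ := (memD d).1 hd
        obtain ⟨h1', h2', h3'⟩ := (memD d').1 hd'
        obtain ⟨n, hn, e⟩ := X.others_conj hG h1 h2 h3 h1' h2' h3'
        exact ⟨cj ⟨n, hn⟩, fun w => by rw [memD, memD]; exact X.mem_DD_conj hn, val_inj e⟩
      o36 := by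
        intro y hy0 hyD
        rw [← X.local36 hG (val_mem y) (zt_of y hy0 hyD),
          ← hcount (fun g => g ∈ X.DD ∧ g * val y ∈ X.DD) fun g h => h.1.1]
        congr 1
        ext w
        simp only [Finset.mem_filter, Finset.mem_univ, true_and, memD, val_add]
      four := by
        intro y hy0 hyD d hd hdy
        rw [← X.local4 hG (val_mem y) (zt_of y hy0 hyD) ((memD d).1 hd)
            (val_add d y ▸ (memD _).1 hdy),
          ← hcount (fun g => (g ∈ X.DD ∧ g * val y ∈ X.DD) ∧ g ≠ val d ∧ g ≠ val d * val y ∧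
            val d * g ∈ X.DD ∧ val d * g * val y ∈ X.DD) fun g h => h.1.1.1]
        congr 1
        ext w
        simp only [Finset.mem_filter, Finset.mem_univ, true_and, memD, ← val_add, val_inj.ne_iff, and_assoc] }
  obtain ⟨u, rfl⟩ := val_sur u hu.1
  obtain ⟨u', rfl⟩ := val_sur u' hu'.1
  obtain ⟨v, rfl⟩ := val_sur v hv.1
  obtain ⟨v', rfl⟩ := val_sur v' hv'.1
  obtain ⟨zv, hzv⟩ := val_sur z X.z_mem_std
  have hnD : ∀ w, IsConj z (val w) → w ∉ D ∧ w ≠ 0 := fun w h => ⟨fun h' => ((memD w).1 h').2.2 h, fun e => by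
    rw [e, val_zero] at h
    exact X.L.J.ctr.ne_one (isConj_one_left.1 h)⟩
  obtain ⟨hzD, hz0⟩ := hnD zv (hzv ▸ IsConj.refl z)
  obtain ⟨hyD, hy0⟩ := hnD (u + v) hy
  obtain ⟨hyD', hy0'⟩ := hnD (u' + v') hy'
  have m : ∀ {a b : Additive ↥X.std}, val a * val b ∈ X.DD → a + b ∈ A.D := fun h => (memD _).2 h
  have mz : ∀ {a : Additive ↥X.std}, val a * z ∈ X.DD → a + zv ∈ A.D := fun {a} h =>
    m (by rw [hzv]; exact h)
  obtain ⟨x, hx, h1, h2, h3⟩ := cross A hz0 hzD ((memD u).2 hu) ((memD u').2 hu') (m huu) (mz hz) (mz hz')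
    ((memD v).2 hv) ((memD v').2 hv') (m hvv) (mz hvz) (mz hvz') hyD hy0 hyD' hy0'
  exact ⟨val x, (memD x).1 hx, (memD _).1 h1, (memD _).1 h2, (memD _).1 h3⟩

/-- Membership of a pair in the `E` of a conjugate of `z`. -/
theorem EE_of_DD {y x : G} (hy : y ∈ X.std) (hyz : IsConj z y) (hx : x ∈ X.DD) (hxy : x * y ∈ X.DD) :
    x ∈ EE y := by
  obtain ⟨n, hn, rfl⟩ : y ∈ {w | ∃ n ∈ normalizer (X.std : Set G), n * z * n⁻¹ = w} := by
    rw [X.zt_orbit hG]; exact ⟨hy, hyz⟩
  obtain ⟨b, rfl⟩ : ∃ b, n * b * n⁻¹ = x := ⟨n⁻¹ * x * n, by group⟩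
  rw [show n * b * n⁻¹ * (n * z * n⁻¹) = n * (b * z) * n⁻¹ by group, X.mem_DD_conj hn] at hxy
  rw [X.mem_DD_conj hn] at hx
  rw [mem_EE_conj, show n⁻¹ * (n * b * n⁻¹) * n = b by group]
  exact ((X.pair_z hG).1 ⟨hx, hxy⟩).1.1

theorem exists_sum {w : VV z} (hw : w ∈ X.threes) :
    ∃ u ∈ X.five, ∃ v ∈ X.five, w = u + v := by
  have hJ := X.L.J
  obtain ⟨u, hu⟩ := Set.nonempty_of_ncard_ne_zero (show X.five.ncard ≠ 0 by rw [X.five_ncard]; omega)
  obtain ⟨v, hv, hvl⟩ : ∃ v ∈ X.five, v ∉ X.ln u := by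
    by_contra h
    push Not at h
    have h1 : X.five.ncard ≤ (X.ln u : Set (VV z)).ncard := Set.ncard_le_ncard h
    rw [X.five_ncard, ← Nat.card_coe_set_eq, SetLike.coe_sort_coe, X.card_ln hu.2.1] at h1
    omega
  have h0 : u + v ≠ 0 := fun e => hvl (by rw [← VV.eq_of_add hJ e]; exact self_mem_line _ _ _)
  have h3 : X.deg (u + v) = 3 := (X.deg_cases (add_mem hu.1 hv.1) h0).resolve_right fun h =>
    X.five_add hu hv hvl ⟨add_mem hu.1 hv.1, h0, h⟩
  obtain ⟨d, hd, e⟩ := X.three_trans (add_mem hu.1 hv.1) h0 h3 hw.1 hw.2.1 hw.2.2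
  exact ⟨_, X.five_conj hd hu, _, X.five_conj hd hv, by rw [← map_add]; exact e.symm⟩

/-- The multiples of a point of degree three lie in its `E`. -/
theorem line_std {y : G} (hy : y ∈ preV X.L.J X.WV) (h3 : vk z y ∈ X.threes) {p : G} (hp : p ∈ P) (hp1 : p ≠ 1) :
    z ∈ EE y ∧ p * y * p⁻¹ ∈ EE y := by
  have hJ := X.L.J
  have hpH := hJ.P_le_HH hp
  have hpN := X.P_le_NC hp
  have hyz : IsConj z y := (X.params hG).2.2.1 y hy h3.2.1 h3.2.2
  obtain ⟨a, ha, b, hb, hab⟩ := exists_sum X hG h3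
  obtain ⟨u, hu, rfl⟩ := vk_surj a
  obtain ⟨v0, hv0, rfl⟩ := vk_surj b
  obtain ⟨v, hv, hvb, rfl⟩ : ∃ v ∈ EE z, vk z v ∈ X.five ∧ y = u * v := by
    refine ⟨u⁻¹ * y, mul_mem (inv_mem hu) hy.1, ?_, (mul_inv_cancel_left u y).symm⟩
    rwa [vk_mul (inv_mem hu) hy.1, vk_inv hJ hu, hab, ← add_assoc, VV.two hJ, zero_add]
  have lift : ∀ {w : G}, w ∈ EE z → vk z w ∈ X.five → w ∈ X.DD ∧ w * z ∈ X.DD := fun hw h5 =>
    (X.pair_z hG).2 ⟨⟨hw, h5.1⟩, h5⟩
  have conjd : ∀ {w : G}, w ∈ EE z → vk z w ∈ X.five →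
      p * w * p⁻¹ ∈ X.DD ∧ p * w * p⁻¹ * z ∈ X.DD ∧ w * (p * w * p⁻¹) ∈ X.DD := by
    intro w hw h5
    have hw' := conj_mem_EE hpH hw
    have hne : act z p (vk z w) ≠ vk z w := fun e => h5.2.1 ((vk_eq_zero_iff hJ hw).2 (hJ.fpf hp hp1 hw (by
      rw [act_vk hpH hw] at e
      rw [← vk_eq_zero_iff hJ (mul_mem hw' (inv_mem hw)), vk_mul hw' (inv_mem hw), vk_inv hJ hw, e, VV.two hJ])))
    have h1 : vk z (p * w * p⁻¹) ∈ X.five := by
      rw [← act_vk hpH hw]; exact X.five_conj hpN h5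
    refine ⟨(lift hw' h1).1, (lift hw' h1).2, (lift (mul_mem hw hw') ?_).1⟩
    rw [vk_mul hw hw', ← act_vk hpH hw]
    refine X.five_ln h5 (add_mem (self_mem_line _ _ _) (X.act_P_cases hp _)) fun h => hne ?_
    exact (VV.eq_of_add hJ h).symm
  obtain ⟨hu1, hu2⟩ := lift hu ha
  obtain ⟨hv1, hv2⟩ := lift hv hvb
  obtain ⟨hu'1, hu'2, huu⟩ := conjd hu ha
  obtain ⟨hv'1, hv'2, hvv⟩ := conjd hv hvb
  have hyS : u * v ∈ X.std := X.preV_le_std hy
  have hpy : p * (u * v) * p⁻¹ = p * u * p⁻¹ * (p * v * p⁻¹) := by group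
  have hpyz : IsConj z (p * u * p⁻¹ * (p * v * p⁻¹)) := hpy ▸ hyz.trans (isConj_iff.2 ⟨p, rfl⟩)
  constructor
  · have h1 : u ∈ EE (u * v) := EE_of_DD X hG hyS hyz hu1 (by
      rw [← mul_assoc, X.std_eleven.sq u hu1.1, one_mul]; exact hv1)
    have h2 : u * z ∈ EE (u * v) := EE_of_DD X hG hyS hyz hu2 (by
      rw [show u * z * (u * v) = u * (z * u) * v by group, X.std_eleven.comm z X.z_mem_std u hu1.1,
        show u * (u * z) * v = u * u * (z * v) by group, X.std_eleven.sq u hu1.1, one_mul,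
        X.std_eleven.comm z X.z_mem_std v hv1.1]
      exact hv2)
    simpa using mul_mem (inv_mem h1) h2
  · rw [hpy]
    obtain ⟨x, hx, h1, h2, h3⟩ := cross_std X hG hu1 hu'1 huu hu2 hu'2 hv1 hv'1 hvv hv2 hv'2 hyz hpyz
    have e1 := EE_of_DD X hG hyS hyz hx h1
    have e2 := EE_of_DD X hG hyS hyz h2 h3
    simpa using mul_mem (inv_mem e1) e2

/-- A conjugate of `z` in `E` has `z` and its multiples in its own `E`. -/
theorem clique {y : G} (hy : y ∈ EE z) (hyz : IsConj z y) {p : G} (hp : p ∈ P) :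
    z ∈ EE y ∧ p * y * p⁻¹ ∈ EE y := by
  have hJ := X.L.J
  have hself : ∀ {w : G}, IsConj z w → w ∈ EE w := fun hw => by
    obtain ⟨g, rfl⟩ := isConj_iff.1 hw
    rw [mem_EE_conj, show g⁻¹ * (g * z * g⁻¹) * g = z by group]
    exact hJ.ctr.z_mem
  by_cases h0 : vk z y = 0
  · rcases hJ.mem_zpowers ((vk_eq_zero_iff hJ hy).1 h0) with rfl | rfl
    · exact absurd (isConj_one_left.1 hyz) hJ.ctr.ne_one
    · refine ⟨hJ.ctr.z_mem, ?_⟩
      rw [mem_HH.1 (hJ.P_le_HH hp), mul_inv_cancel_right]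
      exact hJ.ctr.z_mem
  obtain ⟨d, hd, hm, h3⟩ := exists_move X hG hy hyz h0
  have key : ∀ {w : G}, w ∈ EE (d * y * d⁻¹) → d⁻¹ * w * d ∈ EE y := fun h => (mem_EE_conj y d _).1 h
  by_cases hp1 : p = 1
  · subst hp1
    obtain ⟨p0, hp0, hp01, -, -⟩ := hJ.exists_gen
    obtain ⟨hz', -⟩ := line_std X hG hm h3 hp0 hp01
    refine ⟨?_, by simpa using hself hyz⟩
    have := key hz'
    rwa [mul_assoc, ← mem_HH.1 hd.1, inv_mul_cancel_left] at this
  obtain ⟨hz', hp'⟩ := line_std X hG hm h3 hp hp1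
  constructor
  · have := key hz'
    rwa [mul_assoc, ← mem_HH.1 hd.1, inv_mul_cancel_left] at this
  · have := key hp'
    have hdp := commute_CC_P hd hp
    rwa [show d⁻¹ * (p * (d * y * d⁻¹) * p⁻¹) * d = d⁻¹ * (p * d) * y * (d⁻¹ * p⁻¹ * d) by group, ← hdp,
      show d⁻¹ * p⁻¹ * d = p⁻¹ by rw [mul_assoc, show p⁻¹ * d = d * p⁻¹ from
        ((show Commute d p from hdp).inv_right.eq).symm, inv_mul_cancel_left],
      inv_mul_cancel_left] at this

end Cfsg.Agent.J4Five
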