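import Cfsg.Agent.Lib.J4Five.Class
import Cfsg.Agent.Lib.J4V.Invol.Duad

/-!
# Janko four type: the centraliser and normaliser in `H` of an element of order five, and the second class
-/

set_option autoImplicit false
set_option maxRecDepth 20000
set_option linter.style.haveILetI false
set_option linter.unusedSectionVars false

namespace Cfsg.Agent.J4Five

open Subgroup
open Cfsg.Agent.J4Local
open Cfsg.Agent.J4Eleven (Chart fixV mem_fixV)

universe u

variable {G : Type u} [Group G] [Finite G] {z : G} {P : Subgroup G} [IsSimpleGroup G]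
  (hG : ¬ IsMulCommutative G) (X : Chart z P)

include hG X

/-- The orders of the centraliser and normaliser of `q` in `H`. -/
theorem card_H {q : G} (hqN : q ∈ X.NC) (hq : orderOf q = 5) :
    Nat.card ↥(HH z ⊓ centralizer ({q} : Set G)) = 960 ∧
      Nat.card ↥(HH z ⊓ normalizer (zpowers q : Set G)) = 3840 := by
  classical
  haveI := Cfsg.Agent.Golay.M22TwoBlock.isSimple
  haveI : Fact (Nat.Prime 5) := ⟨by norm_num⟩
  have hJ := X.L.J
  have hqC := X.NC_le hqN
  have hqH : q ∈ HH z := hqC.1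
  have hq5 : q ^ 5 = 1 := hq ▸ pow_orderOf_eq_one q
  obtain ⟨Φ, hΦ, hker, hPE⟩ := exists_full_hom hJ
  set y := Φ ⟨q, hqH⟩ with hy
  have hqn : ∀ i : ℤ, q ^ i ∈ P ⊔ EE z → q ^ i = 1 := fun i h => by
    have h1 : orderOf (q ^ i) ∣ 5 := hq ▸ orderOf_dvd_of_mem_zpowers (zpow_mem (mem_zpowers q) i)
    have h2 := (P ⊔ EE z).orderOf_dvd_natCard h
    rw [hPE] at h2
    exact orderOf_eq_one_iff.1 (Nat.dvd_one.1 ((Nat.dvd_gcd h1 h2).trans (by norm_num)))
  have hy5 : orderOf y = 5 := by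
    refine orderOf_eq_prime ?_ fun e => ?_
    · rw [hy, ← map_pow, show (⟨q, hqH⟩ : ↥(HH z)) ^ 5 = 1 from Subtype.ext hq5, map_one]
    · have h1 : (⟨q, hqH⟩ : ↥(HH z)) ∈ Φ.ker := e
      rw [hker, mem_subgroupOf] at h1
      have h := hqn 1 (by rwa [zpow_one])
      rw [zpow_one] at h
      rw [h, orderOf_one] at hq
      norm_num at hq
  obtain ⟨hC10, hN40, -⟩ := aut_five hy5
  set PE : Subgroup G := P ⊔ EE z with hPE'
  have hPEH : PE ≤ HH z := sup_le hJ.P_le_HH (EE_le_HH z)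
  have hPEn : ∀ h ∈ HH z, ∀ k ∈ PE, h * k * h⁻¹ ∈ PE := fun h hh k hk => by
    have h1 : (⟨h, hh⟩ * ⟨k, hPEH hk⟩ * ⟨h, hh⟩⁻¹ : ↥(HH z)) ∈ Φ.ker :=
      (MonoidHom.normal_ker Φ).conj_mem _ (by rw [hker, mem_subgroupOf]; exact hk) _
    rw [hker, mem_subgroupOf] at h1
    exact h1
  -- the fixed part of the kernel
  obtain ⟨hF16, -, -, -, -⟩ := fixed_facts X hG hqN hq
  set F := fixV z ({q} : Set G) with hF
  have hFm : ∀ {v}, v ∈ F ↔ act z q v = v := fun {v} => ⟨fun h => h q rfl, fun h c hc => by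
    rw [Set.mem_singleton_iff] at hc; exact hc ▸ h⟩
  have hE32 : Nat.card ↥(EE z ⊓ centralizer ({q} : Set G)) = 32 := by
    set CE := EE z ⊓ centralizer ({q} : Set G) with hCE
    have hfix : ∀ e : ↥CE, vk z (e : G) ∈ F := fun e => hFm.2 (by
      rw [act_vk hqH e.2.1, ← (mem_centralizer_singleton_iff.1 e.2.2), mul_inv_cancel_right])
    let f : ↥CE →* Multiplicative ↥F := MonoidHom.mk' (fun e => Multiplicative.ofAdd ⟨vk z e, hfix e⟩)
      fun a b => congrArg Multiplicative.ofAdd (Subtype.ext (vk_mul a.2.1 b.2.1))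
    have hzle : zpowers z ≤ CE := zpowers_le.2 ⟨hJ.ctr.z_mem,
      mem_centralizer_singleton_iff.2 (mem_HH.1 hqH).symm⟩
    have hk : f.ker = (zpowers z).subgroupOf CE := by
      ext a
      rw [MonoidHom.mem_ker, mem_subgroupOf, ← vk_eq_zero_iff hJ a.2.1]
      show Multiplicative.ofAdd (⟨vk z a, hfix a⟩ : ↥F) = 1 ↔ _
      rw [← ofAdd_zero, Multiplicative.ofAdd.injective.eq_iff, Subtype.ext_iff]
      rfl
    have hf : Function.Surjective f := fun v => by
      obtain ⟨e, he, ev⟩ := vk_surj ((Multiplicative.toAdd v : ↥F) : VV z)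
      refine ⟨⟨e, he, mem_centralizer_singleton_iff.2 (comm_of_fix hJ hqH hq5 he ?_).symm⟩,
        congrArg Multiplicative.ofAdd (Subtype.ext ev)⟩
      rw [ev]; exact hFm.1 (Multiplicative.toAdd v).2
    have h := f.ker.card_mul_index
    rw [index_ker, MonoidHom.range_eq_top.2 hf, Nat.card_congr topEquiv.toEquiv, hk,
      Nat.card_congr (subgroupOfEquivOfLe hzle).toEquiv, Nat.card_zpowers, hJ.two,
      Nat.card_congr Multiplicative.toAdd, hF16] at h
    omega
  have hn : P ≤ normalizer (EE z : Set G) := fun p hp => M22Order.mem_normalizer_of_conj fun e he =>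
    conj_mem_EE (hJ.P_le_HH hp) he
  set K := PE ⊓ centralizer ({q} : Set G) with hK
  have hK96 : Nat.card ↥K = 96 := by
    rw [show (96 : ℕ) = Nat.card (↥P × ↥(EE z ⊓ centralizer ({q} : Set G))) by
      rw [Nat.card_prod, hJ.cardP, hE32]]
    refine (Nat.card_congr (Equiv.ofBijective (fun pe : ↥P × ↥(EE z ⊓ centralizer ({q} : Set G)) =>
      (⟨(pe.1 : G) * pe.2, mul_mem (mem_sup_left pe.1.2) (mem_sup_right pe.2.2.1),
        mem_centralizer_singleton_iff.2 (((show Commute (pe.1 : G) q from (commute_CC_P hqC pe.1.2).symm).mul_left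
          (mem_centralizer_singleton_iff.1 pe.2.2.2)).eq)⟩ : ↥K)) ⟨?_, ?_⟩)).symm
    · rintro ⟨p, e⟩ ⟨p', e'⟩ h
      have h' : (p : G) * e = p' * e' := congrArg Subtype.val h
      have hmem : (p' : G)⁻¹ * p = e' * (e : G)⁻¹ := by
        rw [eq_mul_inv_iff_mul_eq, mul_assoc, h', inv_mul_cancel_left]
      have he1 : (e : G) ∈ EE z := (mem_inf.1 e.2).1
      have he2 : (e' : G) ∈ EE z := (mem_inf.1 e'.2).1
      have h1 : (p' : G)⁻¹ * p ∈ EE z := hmem ▸ mul_mem he2 (inv_mem he1)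
      have h2 : (p' : G)⁻¹ * p ∈ EE z ⊓ P := mem_inf.2 ⟨h1, mul_mem (inv_mem p'.2) p.2⟩
      have hb : EE z ⊓ P = ⊥ := disjoint_iff.1 (disjoint_of_coprime_natCard (by
        rw [hJ.cardE, hJ.cardP]; norm_num))
      rw [hb, mem_bot, inv_mul_eq_one] at h2
      rw [h2] at h'
      exact Prod.ext (Subtype.ext h2.symm) (Subtype.ext (mul_left_cancel h'))
    · rintro ⟨k, hk, hkq⟩
      have hk' : k ∈ ((P ⊔ EE z : Subgroup G) : Set G) := hk
      rw [coe_mul_of_left_le_normalizer_right P _ hn] at hk'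
      obtain ⟨p, hp, e, he, (rfl : p * e = k)⟩ := hk'
      have hpq : Commute p q := (commute_CC_P hqC hp).symm
      refine ⟨⟨⟨p, hp⟩, e, he, mem_centralizer_singleton_iff.2 ?_⟩, rfl⟩
      have h1 := (hpq.inv_left).mul_left (show Commute (p * e) q from mem_centralizer_singleton_iff.1 hkq)
      rw [inv_mul_cancel_left] at h1
      exact h1.eq
  -- coprime action: lifting
  have hKN : PE ⊓ normalizer (zpowers q : Set G) = K := by
    refine le_antisymm ?_ (inf_le_inf_left _ ?_)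
    · rintro k ⟨hkP, hkN⟩
      obtain ⟨i, hi⟩ := mem_zpowers_iff.1 (M22Order.conj_mem_of_mem_normalizer hkN (mem_zpowers q))
      have h1 : q ^ (i - 1) ∈ PE := by
        rw [zpow_sub, zpow_one, hi, show k * q * k⁻¹ * q⁻¹ = k * (q * k⁻¹ * q⁻¹) by group]
        exact mul_mem hkP (hPEn q hqH _ (inv_mem hkP))
      have h2 := hqn _ h1
      rw [zpow_sub, zpow_one, hi, mul_inv_eq_one] at h2
      exact mem_inf.2 ⟨hkP, mem_centralizer_singleton_iff.2 (mul_inv_eq_iff_eq_mul.1 h2)⟩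
    · intro g hg
      refine M22Order.mem_normalizer_of_conj fun a ha => ?_
      obtain ⟨i, rfl⟩ := mem_zpowers_iff.1 ha
      rw [((show Commute g q from mem_centralizer_singleton_iff.1 hg).zpow_right i).eq, mul_inv_cancel_right]
      exact zpow_mem (mem_zpowers q) i
  set NH := HH z ⊓ normalizer (zpowers q : Set G) with hNH
  set CH := HH z ⊓ centralizer ({q} : Set G) with hCH
  let fN : ↥NH →* MulAut ↥Cfsg.Spor.M22 := Φ.comp (inclusion inf_le_left)
  let fC : ↥CH →* MulAut ↥Cfsg.Spor.M22 := Φ.comp (inclusion inf_le_left)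
  have lift : ∀ α ∈ normalizer (zpowers y : Set (MulAut ↥Cfsg.Spor.M22)),
      ∃ g, ∃ hg : g ∈ HH z, g ∈ normalizer (zpowers q : Set G) ∧ Φ ⟨g, hg⟩ = α := by
    intro α hα
    obtain ⟨⟨g, hg⟩, rfl⟩ := hΦ α
    set B : Subgroup G := ((zpowers y).comap Φ).map (HH z).subtype with hB
    have hB25 : ¬ 25 ∣ Nat.card ↥B := by
      rw [hB, card_map_of_injective (HH z).subtype_injective]
      have h := ((zpowers y).comap Φ).card_mul_index
      rw [index_comap_of_surjective _ hΦ] at h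
      have h2 := (zpowers y).card_mul_index
      have h3 := Φ.ker.card_mul_index
      rw [index_ker, MonoidHom.range_eq_top.2 hΦ, Nat.card_congr topEquiv.toEquiv, hker,
        Nat.card_congr (subgroupOfEquivOfLe hPEH).toEquiv, hPE, ← h2, Nat.card_zpowers, hy5, ← h, ← mul_assoc] at h3
      rw [← Nat.eq_of_mul_eq_mul_right (Nat.pos_of_ne_zero index_ne_zero_of_finite) h3]
      norm_num
    have hqB : q ∈ B := ⟨⟨q, hqH⟩, mem_zpowers y, rfl⟩
    have hgB : g * q * g⁻¹ ∈ B := ⟨⟨g, hg⟩ * ⟨q, hqH⟩ * ⟨g, hg⟩⁻¹, by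
      show _ ∈ (zpowers y).comap Φ
      rw [mem_comap, map_mul, map_mul, map_inv]
      exact M22Order.conj_mem_of_mem_normalizer hα (mem_zpowers y), rfl⟩
    obtain ⟨c, hc, hcz⟩ := conj_five hB25 hqB hgB hq (by
      rw [← hq, show g * q * g⁻¹ = MulAut.conj g q from rfl, MulEquiv.orderOf_eq])
    obtain ⟨⟨c', hc'⟩, hcy, hcc⟩ := hc
    replace hcc : c' = c := hcc
    subst hcc
    rename' c' => c
    obtain ⟨i, hi⟩ := mem_zpowers_iff.1 (mem_comap.1 hcy)
    refine ⟨q ^ i * c⁻¹ * g, mul_mem (mul_mem (zpow_mem hqH i) (inv_mem hc')) hg, ?_, ?_⟩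
    · refine M22Order.mem_normalizer_of_conj fun a ha => ?_
      obtain ⟨j, rfl⟩ := mem_zpowers_iff.1 ha
      rw [← conj_zpow]
      refine zpow_mem ?_ j
      obtain ⟨k, hk⟩ := mem_zpowers_iff.1 (hcz.symm ▸ mem_zpowers (g * q * g⁻¹) : g * q * g⁻¹ ∈ zpowers (c * q * c⁻¹))
      rw [conj_zpow] at hk
      rw [show q ^ i * c⁻¹ * g * q * (q ^ i * c⁻¹ * g)⁻¹ = q ^ i * (c⁻¹ * (g * q * g⁻¹) * c) * (q ^ i)⁻¹ by group,
        ← hk, show q ^ i * (c⁻¹ * (c * q ^ k * c⁻¹) * c) * (q ^ i)⁻¹ = q ^ i * q ^ k * (q ^ i)⁻¹ by group]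
      exact mul_mem (mul_mem (zpow_mem (mem_zpowers q) i) (zpow_mem (mem_zpowers q) k))
        (inv_mem (zpow_mem (mem_zpowers q) i))
    · rw [show (⟨q ^ i * c⁻¹ * g, mul_mem (mul_mem (zpow_mem hqH i) (inv_mem hc')) hg⟩ : ↥(HH z)) =
        (⟨q, hqH⟩ : ↥(HH z)) ^ i * (⟨c, hc'⟩ : ↥(HH z))⁻¹ * ⟨g, hg⟩ from Subtype.ext (by push_cast; rfl),
        map_mul, map_mul, map_inv, map_zpow, ← hy, hi, mul_inv_cancel, one_mul]
  have hNK : Nat.card ↥fN.ker = 96 := by
    rw [← hK96, ← hKN]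
    refine Nat.card_congr
      { toFun := fun g => ⟨g.1.1, ?_, g.1.2.2⟩
        invFun := fun g => ⟨⟨g.1, hPEH g.2.1, g.2.2⟩, ?_⟩
        left_inv := fun g => rfl
        right_inv := fun g => rfl }
    · have h : (inclusion inf_le_left g.1 : ↥(HH z)) ∈ Φ.ker := g.2
      rwa [hker, mem_subgroupOf] at h
    · show (⟨g.1, hPEH g.2.1⟩ : ↥(HH z)) ∈ Φ.ker
      rw [hker, mem_subgroupOf]; exact g.2.1
  have hCK : Nat.card ↥fC.ker = 96 := by
    rw [← hK96]
    refine Nat.card_congr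
      { toFun := fun g => ⟨g.1.1, ?_, g.1.2.2⟩
        invFun := fun g => ⟨⟨g.1, hPEH g.2.1, g.2.2⟩, ?_⟩
        left_inv := fun g => rfl
        right_inv := fun g => rfl }
    · have h : (inclusion inf_le_left g.1 : ↥(HH z)) ∈ Φ.ker := g.2
      rwa [hker, mem_subgroupOf] at h
    · show (⟨g.1, hPEH g.2.1⟩ : ↥(HH z)) ∈ Φ.ker
      rw [hker, mem_subgroupOf]; exact g.2.1
  have hNR : fN.range = normalizer (zpowers y : Set (MulAut ↥Cfsg.Spor.M22)) := by
    refine le_antisymm ?_ fun α hα => ?_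
    · rintro _ ⟨g, rfl⟩
      refine M22Order.mem_normalizer_of_conj fun a ha => ?_
      obtain ⟨j, rfl⟩ := mem_zpowers_iff.1 ha
      obtain ⟨k, hk⟩ := mem_zpowers_iff.1 (M22Order.conj_mem_of_mem_normalizer g.2.2 (zpow_mem (mem_zpowers q) j))
      refine mem_zpowers_iff.2 ⟨k, ?_⟩
      show y ^ k = Φ ⟨(g : G), g.2.1⟩ * y ^ j * (Φ ⟨(g : G), g.2.1⟩)⁻¹
      rw [hy, ← map_zpow, ← map_zpow, ← map_inv, ← map_mul, ← map_mul]
      exact congrArg Φ (Subtype.ext (by push_cast; exact hk))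
    · obtain ⟨g, hg, hgN, e⟩ := lift α hα
      exact ⟨⟨g, hg, hgN⟩, e⟩
  have hCR : fC.range = centralizer ({y} : Set (MulAut ↥Cfsg.Spor.M22)) := by
    refine le_antisymm ?_ fun α hα => ?_
    · rintro _ ⟨g, rfl⟩
      refine mem_centralizer_singleton_iff.2 ?_
      show Φ ⟨(g : G), g.2.1⟩ * y = y * Φ ⟨(g : G), g.2.1⟩
      rw [hy, ← map_mul, ← map_mul]
      exact congrArg Φ (Subtype.ext (mem_centralizer_singleton_iff.1 g.2.2))
    · have hαc := mem_centralizer_singleton_iff.1 hα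
      obtain ⟨g, hg, hgN, e⟩ := lift α (M22Order.mem_normalizer_of_conj fun a ha => by
        obtain ⟨j, rfl⟩ := mem_zpowers_iff.1 ha
        rw [((show Commute α y from hαc).zpow_right j).eq, mul_inv_cancel_right]
        exact zpow_mem (mem_zpowers y) j)
      refine ⟨⟨g, hg, mem_centralizer_singleton_iff.2 ?_⟩, e⟩
      obtain ⟨j, hj⟩ := mem_zpowers_iff.1 (M22Order.conj_mem_of_mem_normalizer hgN (mem_zpowers q))
      have h1 : y ^ j = y := by
        have h2 := congrArg (fun w => Φ w) (show (⟨q, hqH⟩ : ↥(HH z)) ^ j =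
          ⟨g, hg⟩ * ⟨q, hqH⟩ * ⟨g, hg⟩⁻¹ from Subtype.ext (by push_cast; exact hj))
        simp only [map_mul, map_inv, map_zpow, ← hy, e] at h2
        rw [h2, hαc, mul_inv_cancel_right]
      have h3 : y ^ (j - 1) = 1 := by rw [zpow_sub, zpow_one, h1, mul_inv_cancel]
      have h4 : q ^ (j - 1) = 1 := by
        rw [← orderOf_dvd_iff_zpow_eq_one, hq]
        rw [← orderOf_dvd_iff_zpow_eq_one, hy5] at h3
        exact h3
      rw [zpow_sub, zpow_one, hj, mul_inv_eq_one] at h4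
      exact mul_inv_eq_iff_eq_mul.1 h4
  constructor
  · rw [← fC.ker.card_mul_index, index_ker, hCK, hCR, hC10]
  · rw [← fN.ker.card_mul_index, index_ker, hNK, hNR, hN40]

/-- The centraliser of an involution of the second class and an element of order five. -/
theorem cent_bound {i x : G} (hi : orderOf i = 2) (hin : ¬ IsConj z i) (hx : orderOf x = 5)
    (hix : i * x = x * i) : Nat.card ↥(centralizer ({i} : Set G) ⊓ centralizer ({x} : Set G)) ≤ 80 := by
  classical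
  haveI : Fact (Nat.Prime 5) := ⟨by norm_num⟩
  obtain ⟨M⟩ := exists_model X hG
  obtain ⟨g0, hg0⟩ := J4V.Invol.exists_conj_DD hG X hi hin
  obtain ⟨hd, hd1, hdn⟩ := M.d0_other hG
  obtain ⟨n, -, hn⟩ := X.others_conj hG hg0.1 hg0.2.1 hg0.2.2 hd hd1 hdn
  set g := n * g0 with hg
  have hgi : g * i * g⁻¹ = M.d0 := by rw [← hn, hg]; group
  set x' := g * x * g⁻¹ with hx'
  have hx5 : orderOf x' = 5 := by rw [← hx, hx', show g * x * g⁻¹ = MulAut.conj g x from rfl, MulEquiv.orderOf_eq]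
  set D := centralizer ({M.d0} : Set G) ⊓ centralizer ({x'} : Set G) with hD
  have hcard : Nat.card ↥(centralizer ({i} : Set G) ⊓ centralizer ({x} : Set G)) = Nat.card ↥D := by
    rw [← card_map_of_injective (f := (MulAut.conj g).toMonoidHom) (MulAut.conj g).injective]
    congr 2
    have key : ∀ a b : G, g⁻¹ * a * g * b = b * (g⁻¹ * a * g) ↔ a * (g * b * g⁻¹) = g * b * g⁻¹ * a := fun a b =>
      ⟨fun h => by
        calc a * (g * b * g⁻¹) = g * (g⁻¹ * a * g * b) * g⁻¹ := by group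
          _ = _ := by rw [h]; group,
       fun h => by
        calc g⁻¹ * a * g * b = g⁻¹ * (a * (g * b * g⁻¹)) * g := by group
          _ = _ := by rw [h]; group⟩
    ext a
    rw [hD, mem_map_equiv, MulAut.conj_symm_apply, mem_inf, mem_inf, mem_centralizer_singleton_iff,
      mem_centralizer_singleton_iff, mem_centralizer_singleton_iff, mem_centralizer_singleton_iff, key, key, hgi]
  have hdx : M.d0 * x' = x' * M.d0 := by
    rw [← hgi, hx']
    calc g * i * g⁻¹ * (g * x * g⁻¹) = g * (i * x) * g⁻¹ := by group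
      _ = _ := by rw [hix]; group
  have hDN : D ≤ normalizer (X.std : Set G) := inf_le_left.trans (X.centralizer_le_of_not_zt hG hd hd1 hdn)
  have hxD : x' ∈ D := ⟨mem_centralizer_singleton_iff.2 hdx.symm, mem_centralizer_singleton_iff.2 rfl⟩
  obtain ⟨h8, -⟩ := std_fixed hG X (hDN hxD) hx5
  obtain ⟨iso⟩ := M.stab_iso hG
  set S0 := M.K ⊓ centralizer ({M.d0} : Set G) with hS0
  let j : ↥S0 →* ↥Cfsg.M24 := MonoidHom.mk' (fun k => M.pr ⟨k, M.hK k.2.1⟩)
    fun a b => map_mul M.pr ⟨a, M.hK a.2.1⟩ ⟨b, M.hK b.2.1⟩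
  have hone : ∀ {b : G} (hb : b ∈ normalizer (X.std : Set G)), M.pr ⟨b, hb⟩ = 1 ↔ b ∈ X.std := fun hb =>
    (M24CocodeSplit.Split.proj_eq_one _ M.φ).trans mem_subgroupOf
  have hj : Function.Injective j := (injective_iff_map_eq_one j).2 fun k hk =>
    Subtype.ext (M.inj _ k.2.1 ((hone _).1 hk))
  let fD : ↥D →* ↥Cfsg.M24 := M.pr.comp (inclusion hDN)
  have hfr : ∀ b, fD b ∈ j.range := fun b => by
    obtain ⟨a, -, k, hk, e⟩ := M.decomp (hDN b.2)
    have hkd : k ∈ centralizer ({M.d0} : Set G) := by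
      have ha : M.iv a ∈ centralizer ({M.d0} : Set G) :=
        mem_centralizer_singleton_iff.2 (X.std_eleven.comm _ (M.iv_mem a) _ hd)
      have := mul_mem (inv_mem ha) (e ▸ b.2.1)
      rwa [inv_mul_cancel_left] at this
    refine ⟨⟨k, hk, hkd⟩, ?_⟩
    show M.pr ⟨k, M.hK hk⟩ = M.pr ⟨(b : G), hDN b.2⟩
    rw [← one_mul (M.pr ⟨k, M.hK hk⟩), ← (hone (le_normalizer (M.iv_mem a))).2 (M.iv_mem a), ← map_mul]
    exact congrArg M.pr (Subtype.ext e.symm)
  let f : ↥D →* MulAut ↥Cfsg.Spor.M22 :=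
    (iso.toMonoidHom.comp (MonoidHom.ofInjective hj).symm.toMonoidHom).comp (fD.codRestrict j.range hfr)
  have hf1 : ∀ b, f b = 1 ↔ (b : G) ∈ X.std := fun b => by
    rw [← hone (hDN b.2)]
    simp only [f, MonoidHom.comp_apply, MulEquiv.coe_toMonoidHom, MulEquiv.map_eq_one_iff, Subtype.ext_iff]
    rfl
  have hk : Nat.card ↥f.ker = 8 := by
    rw [← h8]
    refine Nat.card_congr
      { toFun := fun b => ⟨b.1.1, (hf1 b.1).1 b.2, b.1.2.2⟩
        invFun := fun b => ⟨⟨b.1, mem_centralizer_singleton_iff.2 (X.std_eleven.comm _ b.2.1 _ hd), b.2.2⟩,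
          (hf1 _).2 b.2.1⟩
        left_inv := fun b => rfl
        right_inv := fun b => rfl }
  set y := f ⟨x', hxD⟩ with hy
  have hy5 : orderOf y = 5 := by
    refine orderOf_eq_prime ?_ fun e => ?_
    · rw [hy, ← map_pow, show (⟨x', hxD⟩ : ↥D) ^ 5 = 1 from Subtype.ext (hx5 ▸ pow_orderOf_eq_one x'), map_one]
    · have h := X.std.orderOf_dvd_natCard ((hf1 _).1 e)
      rw [show ((⟨x', hxD⟩ : ↥D) : G) = x' from rfl, hx5, X.std_eleven.card] at h
      norm_num at h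
  obtain ⟨hC10, -, -⟩ := aut_five hy5
  have hr : f.range ≤ centralizer ({y} : Set (MulAut ↥Cfsg.Spor.M22)) := by
    rintro _ ⟨b, rfl⟩
    rw [mem_centralizer_singleton_iff, hy, ← map_mul, ← map_mul]
    exact congrArg f (Subtype.ext (mem_centralizer_singleton_iff.1 b.2.2))
  haveI : Finite (MulAut ↥Cfsg.Spor.M22) :=
    Finite.of_injective (fun e : MulAut ↥Cfsg.Spor.M22 => e.toEquiv) fun a b h =>
      MulEquiv.ext fun w => Equiv.congr_fun h w
  rw [hcard, ← f.ker.card_mul_index, index_ker, hk]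
  have := card_le_of_le hr
  rw [hC10] at this
  omega

end Cfsg.Agent.J4Five
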