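import Cfsg.Agent.Lib.J4Five.Struct

/-!
# Janko four type: subgroups of order five
-/

set_option autoImplicit false
set_option maxRecDepth 20000
set_option linter.style.haveILetI false
set_option linter.unusedSectionVars false

namespace Cfsg.Agent.J4Five

open Subgroup
open Cfsg.Agent.J4Local
open Cfsg.Agent.J4Eleven (Chart)

universe u

variable {G : Type u} [Group G] [Finite G] [IsSimpleGroup G] {z : G} {P : Subgroup G}

/-- The four conclusions, for a subgroup of order five. -/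
theorem order_five (hG : ¬ IsMulCommutative G) (X : Chart z P) (Q : Subgroup G) (hQ : Nat.card ↥Q = 5) :
    ¬ (25 ∣ Nat.card G) ∧
    (∃ J : Subgroup G, Cfsg.IsInternalDirectProduct Q J (centralizer (Q : Set G)) ∧
      ∃ (E : Subgroup ↥J) (_ : E.Normal), Cfsg.IsElementaryAbelian 2 E ∧ Nat.card ↥E = 8 ∧
        Nonempty (↥J ⧸ E ≃* Matrix.SpecialLinearGroup (Fin 3) (ZMod 2)) ∧ ∀ K : Subgroup ↥J, ¬ E.IsComplement' K) ∧
    (∃ R : Subgroup G, Q ≤ R ∧ R ≤ normalizer (Q : Set G) ∧ Nat.card ↥R = 20 ∧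
      R ⊓ centralizer (Q : Set G) = Q) ∧
    Nat.card ↥(normalizer (Q : Set G)) = 2 ^ 8 * 3 * 5 * 7 := by
  classical
  haveI : Fact (Nat.Prime 5) := ⟨by norm_num⟩
  obtain ⟨q, hqN, hq⟩ := exists_q X
  obtain ⟨h25, ⟨J, ⟨h1, h2, h3, h4, h5⟩, E, hEn, hEa, hEc, ⟨φ⟩, hns⟩, hN⟩ := std_results hG X hqN hq
  obtain ⟨f, hf⟩ := exists_m22 hG X
  obtain ⟨x, hx, R, hxR, hRN, hRc, hRx⟩ := exists_twenty f hf
  obtain ⟨⟨s, hs⟩, hs5⟩ := exists_prime_orderOf_dvd_card' (G := ↥Q) 5 (by rw [hQ])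
  rw [Subgroup.orderOf_mk] at hs5
  have hQs : Q = zpowers s := eq_zpowers_five hQ hs hs5
  have htop : ¬ 25 ∣ Nat.card ↥(⊤ : Subgroup G) := by rw [Nat.card_congr topEquiv.toEquiv]; exact h25
  obtain ⟨c, -, hc⟩ := conj_five htop (mem_top q) (mem_top s) hq hs5
  obtain ⟨d, -, hd⟩ := conj_five htop (mem_top x) (mem_top s) hx hs5
  have tr : ∀ (g r : G), zpowers (g * r * g⁻¹) = zpowers s →
      Q = (zpowers r).map (MulAut.conj g).toMonoidHom ∧
      centralizer (Q : Set G) = (centralizer (zpowers r : Set G)).map (MulAut.conj g).toMonoidHom ∧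
      normalizer (Q : Set G) = (normalizer (zpowers r : Set G)).map (MulAut.conj g).toMonoidHom := by
    intro g r hg
    set σ := MulAut.conj g
    have hmap : Q = (zpowers r).map σ.toMonoidHom := by
      rw [MonoidHom.map_zpowers, hQs, ← hg]; rfl
    refine ⟨hmap, ?_, ?_⟩
    · ext w
      rw [mem_map_equiv, MulAut.conj_symm_apply, mem_centralizer_iff, mem_centralizer_iff, hmap]
      constructor
      · intro h a ha
        have := h (g * a * g⁻¹) ⟨a, ha, rfl⟩
        calc a * (g⁻¹ * w * g) = g⁻¹ * (g * a * g⁻¹ * w) * g := by group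
          _ = _ := by rw [this]; group
      · rintro h _ ⟨a, ha, rfl⟩
        show g * a * g⁻¹ * w = w * (g * a * g⁻¹)
        calc g * a * g⁻¹ * w = g * (a * (g⁻¹ * w * g)) * g⁻¹ := by group
          _ = _ := by rw [h a ha]; group
    · rw [hmap]; exact (cjS_normalizer g (zpowers r)).symm
  obtain ⟨hQc, hCc, hNc⟩ := tr c q hc
  obtain ⟨hQd, hCd, hNd⟩ := tr d x hd
  set σ := MulAut.conj c
  refine ⟨h25, ⟨J.map σ.toMonoidHom, ?_, ?_⟩, ⟨R.map (MulAut.conj d).toMonoidHom, ?_⟩, ?_⟩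
  · rw [hCc, hQc]
    refine ⟨map_mono h1, map_mono h2, ?_, ?_, ?_⟩
    · rintro _ ⟨a, ha, rfl⟩ _ ⟨b, hb, rfl⟩
      rw [← map_mul, ← map_mul, h3 a ha b hb]
    · rw [← map_inf _ _ _ σ.injective, h4, Subgroup.map_bot]
    · rw [← Subgroup.map_sup, h5]
  · let e : ↥J ≃* ↥(J.map σ.toMonoidHom) := J.equivMapOfInjective _ σ.injective
    haveI := hEn
    haveI hn' : (E.map e.toMonoidHom).Normal := hEn.map e.toMonoidHom e.surjective
    refine ⟨E.map e.toMonoidHom, hn', ⟨?_, ?_⟩, ?_, ?_, ?_⟩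
    · refine ⟨⟨fun a b => ?_⟩⟩
      obtain ⟨a', ha', ea⟩ := a.2
      obtain ⟨b', hb', eb⟩ := b.2
      refine Subtype.ext ?_
      show (a : ↥(J.map σ.toMonoidHom)) * b = b * a
      rw [← ea, ← eb, ← map_mul, ← map_mul]
      haveI := hEa.1
      exact congrArg e.toMonoidHom (congrArg Subtype.val (mul_comm' (⟨a', ha'⟩ : ↥E) ⟨b', hb'⟩))
    · rintro _ ⟨a, ha, rfl⟩
      rw [← map_pow, hEa.2 a ha, map_one]
    · rw [card_map_of_injective (f := e.toMonoidHom) e.injective, hEc]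
    · exact ⟨(QuotientGroup.congr E (E.map e.toMonoidHom) e rfl).symm.trans φ⟩
    · intro K hK
      refine hns (K.comap e.toMonoidHom) ?_
      refine isComplement'_of_disjoint_and_mul_eq_univ ?_ ?_
      · rw [disjoint_iff, eq_bot_iff]
        rintro a ⟨ha, haK⟩
        have h : e a ∈ E.map e.toMonoidHom ⊓ K := ⟨⟨a, ha, rfl⟩, haK⟩
        rw [hK.disjoint.eq_bot, mem_bot] at h
        rw [mem_bot]
        exact e.injective (h.trans (map_one e).symm)
      · refine Set.eq_univ_of_forall fun a => ?_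
        obtain ⟨⟨⟨b, hb⟩, k⟩, hbk⟩ := hK.2 (e a)
        obtain ⟨b', hb', (rfl : e b' = b)⟩ := hb
        refine ⟨b', hb', b'⁻¹ * a, ?_, mul_inv_cancel_left _ _⟩
        show e (b'⁻¹ * a) ∈ K
        have hbk' : e b' * (k : ↥(J.map σ.toMonoidHom)) = e a := hbk
        rw [map_mul, map_inv, ← hbk', inv_mul_cancel_left]
        exact k.2
  · rw [hCd, hNd, hQd]
    exact ⟨map_mono hxR, map_mono hRN, by rw [card_map_of_injective (MulAut.conj d).injective, hRc],
      by rw [← map_inf _ _ _ (MulAut.conj d).injective, hRx]⟩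
  · rw [hNc, card_map_of_injective σ.injective, hN]

end Cfsg.Agent.J4Five
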