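import Cfsg.Agent.Lib.J4Five.Local
import Cfsg.Agent.Lib.LargeExtra.Fischer.GLThree
import Cfsg.Agent.Lib.J3Uniq.Local
import Cfsg.Prelude.Def_TwoFusion
import Cfsg.Prelude.Def_Transfer

/-!
# Janko four type: the centraliser and normaliser of a subgroup of order five
-/

set_option autoImplicit false
set_option maxRecDepth 20000
set_option linter.style.haveILetI false
set_option linter.unusedSectionVars false

namespace Cfsg.Agent.J4Five

open Subgroup
open Cfsg.Agent.J4Local
open Cfsg.Agent.J4Eleven (Chart fixV mem_fixV)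

universe u

variable {G : Type u} [Group G] [Finite G] {z : G} {P : Subgroup G} [IsSimpleGroup G]
  (hG : ¬ IsMulCommutative G) (X : Chart z P)

theorem cent_conj {q g c : G} (hg : g ∈ normalizer (zpowers q : Set G)) (hc : c * q = q * c) :
    g * c * g⁻¹ * q = q * (g * c * g⁻¹) := by
  have h1 : g⁻¹ * q * g ∈ zpowers q := by
    simpa using M22Order.conj_mem_of_mem_normalizer (inv_mem hg) (mem_zpowers q)
  obtain ⟨i, hi⟩ := mem_zpowers_iff.1 h1
  calc g * c * g⁻¹ * q = g * (c * (g⁻¹ * q * g)) * g⁻¹ := by group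
    _ = g * ((g⁻¹ * q * g) * c) * g⁻¹ := by rw [← hi, ((show Commute c q from hc).zpow_right i).eq]
    _ = _ := by group

theorem mem_norm_of_eq {q g : G} (h : zpowers (g * q * g⁻¹) = zpowers q) :
    g ∈ normalizer (zpowers q : Set G) :=
  M22Order.mem_normalizer_of_conj fun a ha => by
    obtain ⟨i, rfl⟩ := mem_zpowers_iff.1 ha
    rw [← conj_zpow]
    exact zpow_mem (h ▸ mem_zpowers (g * q * g⁻¹)) i

theorem ncard_three {α : Type*} {a b c : α} (hab : a ≠ b) (hac : a ≠ c) (hbc : b ≠ c) :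
    ({a, b, c} : Set α).ncard = 3 := by
  rw [Set.ncard_insert_of_notMem (by simp [hab, hac]), Set.ncard_pair hbc]

include hG X

/-- An element of the centraliser of `z` and `q` flips a second point and fixes a first. -/
theorem flip_z {q : G} (hqN : q ∈ X.NC) (hq : orderOf q = 5) {S : Subgroup G} (F : Five z z q S) {y w : G}
    (hy : y ∈ S) (hw : w ∈ S) (hne : w ≠ y) (hne' : w ≠ y * z) (hw1 : w ≠ 1) (hwz : w ≠ z) :
    ∃ c, c * q = q * c ∧ c * z = z * c ∧ c * y = y * c ∧ c * w * c⁻¹ = w * z := by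
  classical
  have hJ := X.L.J
  have hqC := X.NC_le hqN
  have hqH : q ∈ HH z := hqC.1
  have hq5 : q ^ 5 = 1 := hq ▸ pow_orderOf_eq_one q
  obtain ⟨-, hnd, -, -, -⟩ := fixed_facts X hG hqN hq
  set Fx := fixV z ({q} : Set G) with hFx
  have hSE : ∀ {a}, a ∈ S → a ∈ EE z := fun ha => F.clq z F.mem hJ.ctr.ne_one _ ha
  have hfix : ∀ {a}, a ∈ S → vk z a ∈ Fx := fun {a} ha c hc => by
    rw [Set.mem_singleton_iff] at hc
    rw [hc, act_vk hqH (hSE ha), ← F.comm_x a ha, mul_inv_cancel_right]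
  have hyE := hSE hy
  have hwE := hSE hw
  have one_of_ne : ∀ r : ZMod 2, r ≠ 0 → r = 1 := by decide
  obtain ⟨v, hv, hvy, hvw⟩ : ∃ v ∈ Fx, BB z v (vk z y) = 0 ∧ BB z v (vk z w) = 1 := by
    by_contra hcon
    push Not at hcon
    have h0 : vk z w ≠ 0 := fun e => by
      rcases hJ.mem_zpowers ((vk_eq_zero_iff hJ hwE).1 e) with r | r
      exacts [hw1 r, hwz r]
    obtain ⟨v1, hv1, hv1w⟩ : ∃ v ∈ Fx, BB z v (vk z w) = 1 := by
      by_contra h
      push Not at h
      exact h0 (hnd _ (hfix hw) fun b hb => by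
        rw [BB_comm]
        by_contra hb'
        exact h b hb (one_of_ne _ hb'))
    have hv1y : BB z v1 (vk z y) = 1 := one_of_ne _ fun e => hcon v1 hv1 e hv1w
    have hall : vk z w + vk z y = 0 := hnd _ (add_mem (hfix hw) (hfix hy)) fun b hb => by
      rw [BB_comm, BB_add_right hJ]
      by_cases hby : BB z b (vk z y) = 0
      · have hbw : BB z b (vk z w) = 0 := by
          by_contra h; exact hcon b hb hby (one_of_ne _ h)
        rw [hby, hbw, add_zero]
      · have hby1 := one_of_ne _ hby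
        have hbw : BB z b (vk z w) = 1 := by
          by_contra h
          have hbw0 : BB z b (vk z w) = 0 := by
            by_contra h'; exact h (one_of_ne _ h')
          refine hcon (b + v1) (add_mem hb hv1) ?_ ?_
          · rw [BB_add_left hJ, hby1, hv1y]; decide
          · rw [BB_add_left hJ, hbw0, hv1w, zero_add]
        rw [hby1, hbw]; decide
    rcases (vk_eq_vk_iff hJ hwE hyE).1 (VV.eq_of_add hJ hall) with r | r
    exacts [hne r, hne' r]
  obtain ⟨e, he, rfl⟩ := vk_surj v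
  rw [BB_vk hJ he hyE, cm_eq_zero] at hvy
  rw [BB_vk hJ he hwE] at hvw
  exact ⟨e, (comm_of_fix hJ hqH hq5 he (hv q rfl)).symm, mem_HH.1 (EE_le_HH z he), hvy,
    X.conj_z_of_cm he hwE hvw⟩

/-- An element moving `z` to a point and normalising the group of `q`. -/
theorem exists_move_N {q : G} (hqH : q ∈ HH z) (hq : orderOf q = 5) {b : G} (hb : IsConj z b)
    (hbq : b * q = q * b) : ∃ g, g * z * g⁻¹ = b ∧ g ∈ normalizer (zpowers q : Set G) := by
  obtain ⟨g, rfl⟩ := isConj_iff.1 hb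
  have hxH : g⁻¹ * q * g ∈ HH z := (mem_HH_conj z g q).1 (mem_HH.2 hbq.symm)
  have hord : orderOf (g⁻¹ * q * g) = 5 := by
    rw [← hq, show g⁻¹ * q * g = MulAut.conj g⁻¹ q by simp, MulEquiv.orderOf_eq]
  obtain ⟨c, hc, hcz⟩ := conj_five (not_dvd_HH X) hqH hxH hq hord
  refine ⟨g * c, ?_, mem_norm_of_eq ?_⟩
  · rw [show g * c * z * (g * c)⁻¹ = g * (c * z * c⁻¹) * g⁻¹ by group, mem_HH.1 hc, mul_inv_cancel_right]
  · have h : (zpowers (c * q * c⁻¹)).map (MulAut.conj g).toMonoidHom =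
        (zpowers (g⁻¹ * q * g)).map (MulAut.conj g).toMonoidHom := by rw [hcz]
    rw [MonoidHom.map_zpowers, MonoidHom.map_zpowers] at h
    have e1 : (MulAut.conj g).toMonoidHom (c * q * c⁻¹) = g * c * q * (g * c)⁻¹ := by
      show g * (c * q * c⁻¹) * g⁻¹ = _
      group
    have e2 : (MulAut.conj g).toMonoidHom (g⁻¹ * q * g) = q := by
      show g * (g⁻¹ * q * g) * g⁻¹ = _
      group
    rwa [e1, e2] at h

/-- The elements of `H` centralising `q` permute the six further points transitively. -/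
theorem six {q : G} (hqN : q ∈ X.NC) (hq : orderOf q = 5) {S : Subgroup G} (F : Five z z q S) {a b : G}
    (ha : a ∈ S) (hb : b ∈ S) (ha1 : a ≠ 1) (hb1 : b ≠ 1) (haz : a ≠ z) (hbz : b ≠ z) :
    ∃ c, c * q = q * c ∧ c * z = z * c ∧ c * a * c⁻¹ = b := by
  have hJ := X.L.J
  have hqC := X.NC_le hqN
  have hqH : q ∈ HH z := hqC.1
  have hSE : ∀ {a}, a ∈ S → a ∈ EE z := fun ha => F.clq z F.mem hJ.ctr.ne_one _ ha
  have hppH := hJ.P_le_HH X.pp_mem
  have haE := hSE ha
  have h0a : vk z a ≠ 0 := fun e => by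
    rcases hJ.mem_zpowers ((vk_eq_zero_iff hJ haE).1 e) with r | r
    exacts [ha1 r, haz r]
  -- the six points
  set a1 := X.pp * a * X.pp⁻¹ with ha1d
  have hpq : Commute X.pp q := (commute_CC_P hqC X.pp_mem).symm
  have hpz : Commute X.pp z := mem_HH.1 hppH
  have hne : ∀ p ∈ P, p ≠ 1 → p * a * p⁻¹ ≠ a ∧ p * a * p⁻¹ ≠ a * z := by
    intro p hp hp1
    have key : vk z (p * a * p⁻¹) ≠ vk z a := fun e => h0a ((vk_eq_zero_iff hJ haE).2 (hJ.fpf hp hp1 haE (by
      have hx' := conj_mem_EE (hJ.P_le_HH hp) haE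
      rw [← vk_eq_zero_iff hJ (mul_mem hx' (inv_mem haE)), vk_mul hx' (inv_mem haE), vk_inv hJ haE, e, VV.two hJ])))
    exact ⟨fun e => key (by rw [e]), fun e => key (by rw [e, X.vk_mul_z haE])⟩
  have hSp : ∀ p ∈ P, p * a * p⁻¹ ∈ S := fun p hp => F.all _ (conj_mem_EE (hJ.P_le_HH hp) haE) (by
    exact (((show Commute p q from (commute_CC_P hqC hp).symm).mul_left (F.comm_x a ha)).mul_left
      (show Commute p q from (commute_CC_P hqC hp).symm).inv_left).eq)
    ((F.zt a ha ha1).trans (isConj_iff.2 ⟨p, rfl⟩))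
  obtain ⟨p, hp, hpb⟩ : ∃ p ∈ P, b = p * a * p⁻¹ ∨ b = p * a * p⁻¹ * z := by
    by_contra hcon
    push Not at hcon
    have hpp2 : X.pp * X.pp ≠ 1 := fun e => by
      have h3 := pow_three_eq_one hJ X.pp_mem
      rw [pow_three, e, mul_one] at h3
      exact X.pp_ne h3
    set a2 := X.pp * X.pp * a * (X.pp * X.pp)⁻¹ with ha2d
    have ha21 : a2 = X.pp * a1 * X.pp⁻¹ := by rw [ha2d, ha1d]; group
    have n1 := hne _ X.pp_mem X.pp_ne
    have n2 := hne _ (mul_mem X.pp_mem X.pp_mem) hpp2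
    have cz : ∀ {p w : G}, Commute p z → p * (w * z) * p⁻¹ = p * w * p⁻¹ * z := fun {p w} h => by
      calc p * (w * z) * p⁻¹ = p * w * (z * p⁻¹) := by group
        _ = _ := by rw [← h.inv_left.eq]; group
    have n21 : a2 ≠ a1 ∧ a2 ≠ a1 * z := by
      constructor
      · intro e
        rw [ha21, ha1d] at e
        exact n1.1 (mul_left_cancel (mul_right_cancel e))
      · intro e
        rw [ha21, ha1d, ← cz hpz] at e
        exact n1.2 (mul_left_cancel (mul_right_cancel e))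
    have hz1 : ∀ w : G, w * z ≠ w := fun w e => hJ.ctr.ne_one (mul_eq_left.1 e)
    have hzz : ∀ {u w : G}, u * z = w → u = w * z := fun {u w} e => by
      rw [← e, mul_assoc, hJ.ctr.zz, mul_one]
    have e0 := hcon 1 (one_mem P)
    have e1 := hcon X.pp X.pp_mem
    have e2 := hcon _ (mul_mem X.pp_mem X.pp_mem)
    simp only [one_mul, inv_one, mul_one] at e0
    have hS' : ({a, a * z, a1, a1 * z, a2, a2 * z, b} : Set G) ⊆ (S : Set G) \ {1, z} := by
      have hm : ∀ {w : G}, w ∈ S → w ≠ 1 → w ≠ z → w ∈ (S : Set G) \ {1, z} := fun h h1 h2 => ⟨h, by simp [h1, h2]⟩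
      have hpz' : ∀ {w : G}, w ∈ S → vk z w ≠ 0 → w ≠ 1 ∧ w ≠ z := fun {w} hw h0 =>
        ⟨fun e => h0 (by rw [e, vk_one]), fun e => h0 (by rw [e, vk_z hJ])⟩
      have hk : ∀ {p}, p ∈ P → vk z (p * a * p⁻¹) ≠ 0 := fun {p} hp e => h0a (by
        rw [← act_vk (hJ.P_le_HH hp) haE] at e
        exact act_injective (hJ.P_le_HH hp) (e.trans (map_zero _).symm))
      have hkz : ∀ {w}, w ∈ S → vk z (w * z) = vk z w := fun hw => X.vk_mul_z (hSE hw)
      have m1 := hSp _ X.pp_mem
      have m2 := hSp _ (mul_mem X.pp_mem X.pp_mem)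
      simp only [Set.insert_subset_iff, Set.singleton_subset_iff]
      refine ⟨hm ha ha1 haz, ?_, hm m1 (hpz' m1 (hk X.pp_mem)).1 (hpz' m1 (hk X.pp_mem)).2, ?_,
        hm m2 (hpz' m2 (hk (mul_mem X.pp_mem X.pp_mem))).1 (hpz' m2 (hk (mul_mem X.pp_mem X.pp_mem))).2, ?_,
        hm hb hb1 hbz⟩
      · have h := hpz' (mul_mem ha F.mem) (by rw [hkz ha]; exact h0a)
        exact hm (mul_mem ha F.mem) h.1 h.2
      · have h := hpz' (mul_mem m1 F.mem) (by rw [hkz m1]; exact hk X.pp_mem)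
        exact hm (mul_mem m1 F.mem) h.1 h.2
      · have h := hpz' (mul_mem m2 F.mem) (by rw [hkz m2]; exact hk (mul_mem X.pp_mem X.pp_mem))
        exact hm (mul_mem m2 F.mem) h.1 h.2
    have h6 : ((S : Set G) \ {1, z}).ncard = 6 := by
      rw [Set.ncard_sdiff (by simp [Set.insert_subset_iff, one_mem, F.mem]), Set.ncard_pair (Ne.symm hJ.ctr.ne_one),
        ← Nat.card_coe_set_eq, SetLike.coe_sort_coe, F.card]
    have h7 : ({a, a * z, a1, a1 * z, a2, a2 * z, b} : Set G).ncard = 7 := by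
      rw [Set.ncard_insert_of_notMem, Set.ncard_insert_of_notMem, Set.ncard_insert_of_notMem,
        Set.ncard_insert_of_notMem, Set.ncard_insert_of_notMem, Set.ncard_insert_of_notMem, Set.ncard_singleton]
      all_goals simp only [Set.mem_insert_iff, Set.mem_singleton_iff, not_or]
      · exact fun e => e2.2 e.symm
      · exact ⟨Ne.symm (hz1 a2), fun e => e2.1 e.symm⟩
      · exact ⟨fun e => n21.2 e.symm, fun e => n21.1 (mul_right_cancel e).symm, fun e => e1.2 e.symm⟩
      · exact ⟨Ne.symm (hz1 a1), n21.1.symm, fun e => n21.2 (hzz e.symm), fun e => e1.1 e.symm⟩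
      · exact ⟨fun e => n1.2 e.symm, fun e => n1.1 (mul_right_cancel e).symm, fun e => n2.2 e.symm,
          fun e => n2.1 (mul_right_cancel e).symm, fun e => e0.2 e.symm⟩
      · exact ⟨Ne.symm (hz1 a), n1.1.symm, fun e => n1.2 (hzz e.symm), n2.1.symm, fun e => n2.2 (hzz e.symm),
          fun e => e0.1 e.symm⟩
    have := Set.ncard_le_ncard hS'
    omega
  have hpq' : Commute p q := (commute_CC_P hqC hp).symm
  have hpz' : Commute p z := mem_HH.1 (hJ.P_le_HH hp)
  rcases hpb with rfl | rfl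
  · exact ⟨p, hpq'.eq, hpz'.eq, rfl⟩
  · obtain ⟨c, hcq, hcz, -, hc⟩ := flip_z hG X hqN hq F (one_mem S) (hSp p hp) (fun e => by
        rw [conj_eq_one_iff] at e; exact ha1 e) (fun e => by
        rw [one_mul] at e; exact haz (mul_left_cancel (mul_right_cancel (e.trans (by rw [hpz'.eq, mul_inv_cancel_right])))))
      (fun e => by rw [conj_eq_one_iff] at e; exact ha1 e) (fun e => haz (by
        exact mul_left_cancel (mul_right_cancel (e.trans (by rw [hpz'.eq, mul_inv_cancel_right])))))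
    refine ⟨c * p, ((show Commute c q from hcq).mul_left hpq').eq, ((show Commute c z from hcz).mul_left hpz').eq, ?_⟩
    calc c * p * a * (c * p)⁻¹ = c * (p * a * p⁻¹) * c⁻¹ := by group
      _ = _ := hc

theorem ncard_points {x : G} {S : Subgroup G} (F : Five z z x S) : ((S : Set G) \ {1}).ncard = 7 := by
  rw [Set.ncard_sdiff_singleton_of_mem (one_mem S), ← Nat.card_coe_set_eq, SetLike.coe_sort_coe, F.card]

/-- The centraliser and normaliser of `q`. -/
theorem std_results {q : G} (hqN : q ∈ X.NC) (hq : orderOf q = 5) :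
    ¬ 25 ∣ Nat.card G ∧
    (∃ J : Subgroup G, Cfsg.IsInternalDirectProduct (zpowers q) J (centralizer (zpowers q : Set G)) ∧
      ∃ (E : Subgroup ↥J) (_ : E.Normal), Cfsg.IsElementaryAbelian 2 E ∧ Nat.card ↥E = 8 ∧
        Nonempty (↥J ⧸ E ≃* Matrix.SpecialLinearGroup (Fin 3) (ZMod 2)) ∧ ∀ K : Subgroup ↥J, ¬ E.IsComplement' K) ∧
    Nat.card ↥(normalizer (zpowers q : Set G)) = 2 ^ 8 * 3 * 5 * 7 := by
  classical
  haveI : Fact (Nat.Prime 5) := ⟨by norm_num⟩
  haveI : Fact (Nat.Prime 2) := ⟨Nat.prime_two⟩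
  have hJ := X.L.J
  have hqH : q ∈ HH z := (X.NC_le hqN).1
  have hqz : q * z = z * q := mem_HH.1 hqH
  obtain ⟨hC960, hN3840⟩ := card_H hG X hqN hq
  obtain ⟨S, F⟩ := exists_five_std hG X hqN hq
  set C := centralizer ({q} : Set G) with hC
  have hmC : ∀ {g : G}, g ∈ C ↔ g * q = q * g := mem_centralizer_singleton_iff
  have hCz : centralizer (zpowers q : Set G) = C := by
    ext g
    rw [hmC, mem_centralizer_iff]
    refine ⟨fun h => (h q (mem_zpowers q)).symm, fun h a ha => ?_⟩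
    obtain ⟨i, rfl⟩ := mem_zpowers_iff.1 ha
    exact ((show Commute g q from h).zpow_right i).eq.symm
  have hall : ∀ {a : G}, IsConj z a → a * q = q * a → a ∈ S := fun ha haq => all_mem hG X hq hqz F ha haq
  have hSC : S ≤ C := fun a ha => hmC.2 (F.comm_x a ha)
  have hSn : ∀ {g : G}, g ∈ normalizer (zpowers q : Set G) → ∀ a ∈ S, g * a * g⁻¹ ∈ S := fun {g} hg a ha => by
    by_cases h1 : a = 1
    · simp [h1]
    · exact hall ((F.zt a ha h1).trans (isConj_iff.2 ⟨g, rfl⟩)) (cent_conj hg (F.comm_x a ha))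
  set N := normalizer (zpowers q : Set G) with hN
  have hCN : C ≤ N := fun g hg => mem_norm_of_eq (by
    rw [hmC.1 hg, mul_inv_cancel_right])
  have hbN : ∀ b ∈ S, b ≠ 1 → ∃ g ∈ N, g * z * g⁻¹ = b := fun b hb hb1 => by
    obtain ⟨g, e, hg⟩ := exists_move_N hG X hqH hq (F.zt b hb hb1) (F.comm_x b hb)
    exact ⟨g, hg, e⟩
  -- transitivity
  have htrans : ∀ a ∈ S, a ≠ 1 → ∃ c ∈ C, c * z * c⁻¹ = a := by
    intro a ha ha1
    by_cases haz : a = z
    · exact ⟨1, one_mem _, by rw [haz]; group⟩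
    obtain ⟨b, hb, hb'⟩ : ∃ b ∈ S, b ∉ ({1, z, a} : Set G) := by
      by_contra h
      push Not at h
      have := Set.ncard_le_ncard (s := (S : Set G)) (t := {1, z, a}) h
      rw [← Nat.card_coe_set_eq, SetLike.coe_sort_coe, F.card,
        ncard_three (Ne.symm hJ.ctr.ne_one) (Ne.symm ha1) (Ne.symm haz)] at this
      omega
    simp only [Set.mem_insert_iff, Set.mem_singleton_iff, not_or] at hb'
    obtain ⟨g, hg, hgb⟩ := hbN b hb hb'.1
    have hm : ∀ {w : G}, w ∈ S → w ≠ 1 → w ≠ b → g⁻¹ * w * g ∈ S ∧ g⁻¹ * w * g ≠ 1 ∧ g⁻¹ * w * g ≠ z :=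
      fun {w} hw h1 hwb => ⟨by simpa using hSn (inv_mem hg) w hw,
        fun e => h1 (by rw [show w = g * (g⁻¹ * w * g) * g⁻¹ by group, e]; group),
        fun e => hwb (by rw [← hgb, ← e]; group)⟩
    obtain ⟨h1, h2, h3⟩ := hm F.mem hJ.ctr.ne_one (Ne.symm hb'.2.1)
    obtain ⟨h4, h5, h6⟩ := hm ha ha1 (Ne.symm hb'.2.2)
    obtain ⟨c, hcq, -, hc⟩ := six hG X hqN hq F h1 h4 h2 h5 h3 h6
    refine ⟨g * c * g⁻¹, hmC.2 (cent_conj hg hcq), ?_⟩
    calc g * c * g⁻¹ * z * (g * c * g⁻¹)⁻¹ = g * (c * (g⁻¹ * z * g) * c⁻¹) * g⁻¹ := by group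
      _ = _ := by rw [hc]; group
  have hzC : z ∈ C := hmC.2 hqz.symm
  have horb : {w : G | ∃ k ∈ C, k * z * k⁻¹ = w} = (S : Set G) \ {1} := by
    ext w
    constructor
    · rintro ⟨k, hk, rfl⟩
      exact ⟨hSn (hCN hk) z F.mem, fun e => hJ.ctr.ne_one (conj_eq_one_iff.1 e)⟩
    · exact fun ⟨h, h1⟩ => htrans w h h1
  have hCcard : Nat.card ↥C = 6720 := by
    rw [← M22Order.ncard_conj_orbit C hzC, horb, ncard_points hG X F, hC, hC960]
  have h25 : ¬ 25 ∣ Nat.card G := by
    intro h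
    obtain ⟨R, hR, hqR⟩ := Sylow.exists_subgroup_card_pow_succ (p := 5) (n := 1) (by simpa using h)
      (H := zpowers q) (by rw [Nat.card_zpowers, hq, pow_one])
    haveI := IsPGroup.isMulCommutative_of_card_eq_prime_sq (p := 5) (G := ↥R) hR
    have hRC : R ≤ C := fun r hr => hmC.2
      (congrArg Subtype.val (mul_comm' (⟨r, hr⟩ : ↥R) ⟨q, hqR (mem_zpowers q)⟩))
    have h1 := card_dvd_of_le hRC
    rw [hR, hCcard] at h1
    norm_num at h1
  refine ⟨h25, ?_, ?_⟩
  rotate_left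
  · -- the normaliser
    set f := (zpowers q).normalizerMonoidHom
    have h1 := f.ker.card_mul_index
    rw [index_ker, normalizerMonoidHom_ker, hCz, Nat.card_congr (subgroupOfEquivOfLe hCN).toEquiv, hCcard] at h1
    let g : ↥(HH z ⊓ N) →* MulAut ↥(zpowers q) := f.comp (inclusion inf_le_right)
    have h2 := g.ker.card_mul_index
    rw [index_ker] at h2
    have hgk : Nat.card ↥g.ker = 960 := by
      rw [← hC960]
      refine Nat.card_congr
        { toFun := fun a => ⟨a.1.1, a.1.2.1, ?_⟩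
          invFun := fun a => ⟨⟨a.1, a.2.1, hCN a.2.2⟩, ?_⟩
          left_inv := fun a => rfl
          right_inv := fun a => rfl }
      · have h : (inclusion inf_le_right a.1 : ↥N) ∈ f.ker := a.2
        rw [normalizerMonoidHom_ker, mem_subgroupOf, hCz] at h
        exact h
      · show (⟨a.1, hCN a.2.2⟩ : ↥N) ∈ f.ker
        rw [normalizerMonoidHom_ker, mem_subgroupOf, hCz]
        exact a.2.2
    rw [hgk, show Nat.card ↥(HH z ⊓ N) = 3840 from hN3840] at h2
    have h3 : Nat.card ↥g.range ≤ Nat.card ↥f.range := card_le_of_le (by rintro _ ⟨a, rfl⟩; exact ⟨_, rfl⟩)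
    haveI : Finite (MulAut ↥(zpowers q)) :=
      Finite.of_injective (fun e : MulAut ↥(zpowers q) => e.toEquiv) fun a b h =>
        MulEquiv.ext fun w => Equiv.congr_fun h w
    have h4 : Nat.card ↥f.range ≤ 4 := by
      have h := Subgroup.card_le_card_group f.range
      rwa [IsCyclic.card_mulAut, Nat.card_zpowers, hq, Nat.totient_prime (by norm_num)] at h
    rw [show Nat.card ↥f.range = 4 by omega] at h1
    show Nat.card ↥(normalizer (zpowers q : Set G)) = _
    omega
  -- the complement of order 1344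
  set N0 := (zpowers q).subgroupOf C with hN0
  have hqC : zpowers q ≤ C := zpowers_le.2 (hmC.2 rfl)
  have hN0c : Nat.card ↥N0 = 5 := by
    rw [hN0, Nat.card_congr (subgroupOfEquivOfLe hqC).toEquiv, Nat.card_zpowers, hq]
  have hcen : ∀ n ∈ N0, ∀ g : ↥C, g * n = n * g := fun n hn g => by
    obtain ⟨i, hi⟩ := mem_zpowers_iff.1 (mem_subgroupOf.1 hn)
    refine Subtype.ext ?_
    show (g : G) * n = n * g
    rw [← hi]
    exact ((show Commute (g : G) q from hmC.1 g.2).zpow_right i).eq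
  haveI hnrm : N0.Normal := ⟨fun n hn g => by rw [hcen n hn g, mul_inv_cancel_right]; exact hn⟩
  have hquot : N0.index = 1344 := by
    have := N0.card_mul_index
    rw [hN0c, hCcard] at this
    omega
  obtain ⟨Hc, hHc⟩ := exists_left_complement'_of_coprime (N := N0) (by rw [hN0c, hquot]; norm_num)
  have hHcard : Nat.card ↥Hc = 1344 := by
    have := hHc.card_mul
    rw [hN0c, hCcard] at this
    omega
  have hinvol : ∀ a : ↥C, a * a = 1 → a ∈ Hc := by
    intro a ha
    have h2 : a ∈ Hc ⊔ N0 := hHc.sup_eq_top ▸ mem_top a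
    rw [mem_sup_of_normal_right] at h2
    obtain ⟨h, hh, n, hn, rfl⟩ := h2
    have hc := hcen n hn h
    have h3 : h * h * (n * n) = 1 := by
      rw [← ha]
      calc h * h * (n * n) = h * (h * n) * n := by group
        _ = h * (n * h) * n := by rw [hc]
        _ = _ := by group
    have h4 : n * n ∈ Hc := by
      rw [eq_inv_of_mul_eq_one_right h3]; exact inv_mem (mul_mem hh hh)
    have h5 : n * n = 1 := by
      have : n * n ∈ Hc ⊓ N0 := ⟨h4, mul_mem hn hn⟩
      rwa [hHc.disjoint.eq_bot, mem_bot] at this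
    have h6 : orderOf n = 1 := Nat.dvd_one.1 ((Nat.dvd_gcd (hN0c ▸ N0.orderOf_dvd_natCard hn)
      (orderOf_dvd_of_pow_eq_one (n := 2) (by rw [pow_two, h5]))).trans (by norm_num))
    rw [orderOf_eq_one_iff.1 h6, mul_one]
    exact hh
  set J := Hc.map C.subtype with hJdef
  have hJC : J ≤ C := map_subtype_le _
  have hJcard : Nat.card ↥J = 1344 := by rw [hJdef, card_map_of_injective C.subtype_injective, hHcard]
  have hSJ : S ≤ J := fun a ha => ⟨⟨a, hSC ha⟩, hinvol _ (Subtype.ext (F.sq hJ.ctr.zz ha)), rfl⟩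
  rw [hCz]
  refine ⟨J, ⟨hqC, hJC, ?_, ?_, ?_⟩, ?_⟩
  · rintro a ha b hb
    obtain ⟨i, rfl⟩ := mem_zpowers_iff.1 ha
    exact ((show Commute b q from hmC.1 (hJC hb)).zpow_right i).eq.symm
  · rw [eq_bot_iff]
    rintro a ⟨ha, b, hb, rfl⟩
    have h1 : b ∈ Hc ⊓ N0 := ⟨hb, mem_subgroupOf.2 ha⟩
    rw [hHc.disjoint.eq_bot, mem_bot] at h1
    rw [mem_bot, h1, map_one]
  · refine le_antisymm (sup_le hqC hJC) ?_
    intro g hg
    have h2 : (⟨g, hg⟩ : ↥C) ∈ Hc ⊔ N0 := hHc.sup_eq_top ▸ mem_top _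
    have h3 := mem_map_of_mem C.subtype h2
    rw [Subgroup.map_sup, hN0, map_subgroupOf_eq_of_le hqC, sup_comm] at h3
    exact h3
  -- the elementary normal subgroup
  haveI hEn : (S.subgroupOf J).Normal :=
    ⟨fun a ha g => mem_subgroupOf.2 (hSn (hCN (hJC g.2)) a (mem_subgroupOf.1 ha))⟩
  refine ⟨S.subgroupOf J, hEn, ⟨⟨⟨fun a b => Subtype.ext (Subtype.ext (F.comm a.2 b.2))⟩⟩, fun a ha => ?_⟩,
    by rw [Nat.card_congr (subgroupOfEquivOfLe hSJ).toEquiv, F.card], ?_, ?_⟩
  · rw [pow_two]; exact Subtype.ext (F.sq hJ.ctr.zz (mem_subgroupOf.1 ha))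
  · -- the action on the elementary subgroup
    obtain ⟨e⟩ := LargeExtra.Fischer.equiv_V3 (P := ↥S) F.card fun a => Subtype.ext (F.sq hJ.ctr.zz a.2)
    let A : MulAut ↥S ≃* Matrix.SpecialLinearGroup (Fin 3) (ZMod 2) :=
      (MulAut.congr e).trans (MulEquiv.ofBijective LargeExtra.Fischer.sl3Aut LargeExtra.Fischer.sl3Aut_bijective).symm
    have hJN : J ≤ normalizer (S : Set G) := fun g hg => M22Order.mem_normalizer_of_conj (hSn (hCN (hJC hg)))
    let ρ : ↥J →* Matrix.SpecialLinearGroup (Fin 3) (ZMod 2) :=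
      A.toMonoidHom.comp (S.normalizerMonoidHom.comp (inclusion hJN))
    have hρ : ∀ {j : ↥J}, j ∈ ρ.ker ↔ (j : G) ∈ centralizer (S : Set G) := fun {j} => by
      show A (S.normalizerMonoidHom (inclusion hJN j)) = 1 ↔ _
      rw [MulEquiv.map_eq_one_iff, ← MonoidHom.mem_ker, normalizerMonoidHom_ker, mem_subgroupOf]
      rfl
    have hle : S.subgroupOf J ≤ ρ.ker := fun a ha => hρ.2 (mem_centralizer_iff.2 fun b hb =>
      F.comm hb (mem_subgroupOf.1 ha))
    -- the centraliser of the elementary subgroup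
    have h40 : Nat.card ↥(centralizer (S : Set G) ⊓ C) ∣ 40 := by
      obtain ⟨y, hy, hy'⟩ : ∃ y ∈ S, y ∉ ({1, z} : Set G) := by
        by_contra h
        push Not at h
        have := Set.ncard_le_ncard (s := (S : Set G)) (t := {1, z}) h
        rw [← Nat.card_coe_set_eq, SetLike.coe_sort_coe, F.card, Set.ncard_pair (Ne.symm hJ.ctr.ne_one)] at this
        omega
      simp only [Set.mem_insert_iff, Set.mem_singleton_iff, not_or] at hy'
      have hz2 := hJ.ctr.zz
      obtain ⟨w, hw, hw'⟩ : ∃ w ∈ S, w ∉ ({1, z, y, y * z} : Set G) := by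
        by_contra h
        push Not at h
        have h1 := Set.ncard_le_ncard (s := (S : Set G)) (t := {1, z, y, y * z}) h
        rw [← Nat.card_coe_set_eq, SetLike.coe_sort_coe, F.card] at h1
        have h2 : ({1, z, y, y * z} : Set G).ncard ≤ 4 := by
          have := (Set.ncard_insert_le (1 : G) ({z, y, y * z} : Set G))
          have := (Set.ncard_insert_le z ({y, y * z} : Set G))
          have := (Set.ncard_insert_le y ({y * z} : Set G))
          have := Set.ncard_singleton (y * z)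
          omega
        omega
      simp only [Set.mem_insert_iff, Set.mem_singleton_iff, not_or] at hw'
      obtain ⟨hw1, hwz, hwy, hwyz⟩ := hw'
      set K1 := centralizer ({y} : Set G) ⊓ (HH z ⊓ C) with hK1
      have hyCH : y ∈ HH z ⊓ C := ⟨mem_HH.2 (F.comm hy F.mem), hSC hy⟩
      have h6 : {v : G | ∃ k ∈ HH z ⊓ C, k * y * k⁻¹ = v} = (S : Set G) \ {1, z} := by
        ext v
        constructor
        · rintro ⟨k, ⟨hkz, hkC⟩, rfl⟩
          refine ⟨hSn (hCN hkC) y hy, ?_⟩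
          simp only [Set.mem_insert_iff, Set.mem_singleton_iff, not_or]
          refine ⟨fun e => hy'.1 (conj_eq_one_iff.1 e), fun e => hy'.2 ?_⟩
          calc y = k⁻¹ * (k * y * k⁻¹) * k := by group
            _ = _ := by rw [e, mul_assoc, ← mem_HH.1 hkz, inv_mul_cancel_left]
        · rintro ⟨hv, hv'⟩
          simp only [Set.mem_insert_iff, Set.mem_singleton_iff, not_or] at hv'
          obtain ⟨c, hcq, hcz, hc⟩ := six hG X hqN hq F hy hv hy'.1 hv'.1 hy'.2 hv'.2
          exact ⟨c, ⟨mem_HH.2 hcz, hmC.2 hcq⟩, hc⟩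
      have h160 := M22Order.ncard_conj_orbit (HH z ⊓ C) hyCH
      rw [h6, Set.ncard_sdiff (by simp [Set.insert_subset_iff, one_mem, F.mem]),
        Set.ncard_pair (Ne.symm hJ.ctr.ne_one), ← Nat.card_coe_set_eq, SetLike.coe_sort_coe, F.card, hC, hC960] at h160
      have hK1c : Nat.card ↥K1 = 160 := by rw [hK1, hC]; omega
      obtain ⟨c1, hc1q, hc1z, hc1y, hc1⟩ := flip_z hG X hqN hq F hy hw hwy hwyz hw1 hwz
      obtain ⟨g, hg, hgy⟩ := hbN y hy hy'.1
      obtain ⟨c0, hc0q, hc0y, hc0z, hc0⟩ := flip_z hG X hqN hq F (y := g⁻¹ * z * g) (w := g⁻¹ * w * g)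
        (by simpa using hSn (inv_mem hg) z F.mem) (by simpa using hSn (inv_mem hg) w hw)
        (fun e => hwz (mul_left_cancel (mul_right_cancel e)))
        (fun e => hwyz (by
          calc w = g * (g⁻¹ * w * g) * g⁻¹ := by group
            _ = z * (g * z * g⁻¹) := by rw [e]; group
            _ = _ := by rw [hgy, F.comm F.mem hy]))
        (fun e => hw1 (by rw [show w = g * (g⁻¹ * w * g) * g⁻¹ by group, e]; group))
        (fun e => hwy (by rw [show w = g * (g⁻¹ * w * g) * g⁻¹ by group, e, hgy]))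
      set c2 := g * c0 * g⁻¹ with hc2
      have hc2K : c2 ∈ K1 := by
        refine ⟨mem_centralizer_singleton_iff.2 ?_, mem_HH.2 ?_, hmC.2 (cent_conj hg hc0q)⟩
        · rw [hc2, ← hgy]
          calc g * c0 * g⁻¹ * (g * z * g⁻¹) = g * (c0 * z) * g⁻¹ := by group
            _ = _ := by rw [hc0y]; group
        · rw [hc2]
          calc g * c0 * g⁻¹ * z = g * (c0 * (g⁻¹ * z * g)) * g⁻¹ := by group
            _ = _ := by rw [hc0z]; group
      have hc2w : c2 * w * c2⁻¹ = w * y := by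
        rw [hc2, ← hgy]
        calc g * c0 * g⁻¹ * w * (g * c0 * g⁻¹)⁻¹ = g * (c0 * (g⁻¹ * w * g) * c0⁻¹) * g⁻¹ := by group
          _ = _ := by rw [hc0]; group
      have hwK : w ∈ K1 := ⟨mem_centralizer_singleton_iff.2 (F.comm hw hy), mem_HH.2 (F.comm hw F.mem), hSC hw⟩
      have h3 : 3 ≤ {v : G | ∃ k ∈ K1, k * w * k⁻¹ = v}.ncard := by
        have hsub : ({w, w * z, w * y} : Set G) ⊆ {v : G | ∃ k ∈ K1, k * w * k⁻¹ = v} := by
          simp only [Set.insert_subset_iff, Set.singleton_subset_iff]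
          exact ⟨⟨1, one_mem _, by group⟩,
            ⟨c1, ⟨mem_centralizer_singleton_iff.2 hc1y, mem_HH.2 hc1z, hmC.2 hc1q⟩, hc1⟩, ⟨c2, hc2K, hc2w⟩⟩
        refine le_trans (le_of_eq ?_) (Set.ncard_le_ncard hsub)
        rw [ncard_three (fun e => hJ.ctr.ne_one (mul_eq_left.1 e.symm)) (fun e => hy'.1 (mul_eq_left.1 e.symm))
          (fun e => hy'.2 (mul_left_cancel e).symm)]
      have h40' := M22Order.ncard_conj_orbit K1 hwK
      rw [hK1c] at h40'
      have hle' : Nat.card ↥(centralizer ({w} : Set G) ⊓ K1) ≤ 53 := by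
        have h := Nat.mul_le_mul_right (Nat.card ↥(centralizer ({w} : Set G) ⊓ K1)) h3
        rw [h40'] at h
        omega
      have hsub : centralizer (S : Set G) ⊓ C ≤ centralizer ({w} : Set G) ⊓ K1 := fun c hc => by
        have hcS : ∀ {v}, v ∈ S → c * v = v * c := fun hv => (mem_centralizer_iff.1 hc.1 _ hv).symm
        exact ⟨mem_centralizer_singleton_iff.2 (hcS hw), mem_centralizer_singleton_iff.2 (hcS hy),
          mem_HH.2 (hcS F.mem), hc.2⟩
      have hdvd := card_dvd_of_le hsub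
      have h5 : zpowers q ⊔ S ≤ centralizer (S : Set G) ⊓ C :=
        sup_le (zpowers_le.2 ⟨mem_centralizer_iff.2 fun v hv => F.comm_x v hv, hmC.2 rfl⟩)
          (fun a ha => ⟨mem_centralizer_iff.2 fun v hv => F.comm hv ha, hSC ha⟩)
      have h8 := (card_dvd_of_le (le_sup_right : S ≤ _)).trans (card_dvd_of_le (h5.trans hsub))
      have h5' := (card_dvd_of_le (le_sup_left : zpowers q ≤ _)).trans (card_dvd_of_le (h5.trans hsub))
      rw [F.card] at h8
      rw [Nat.card_zpowers, hq] at h5'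
      have h40'' : Nat.card ↥(centralizer ({w} : Set G) ⊓ K1) = 40 := by
        obtain ⟨k, hk⟩ := Nat.Coprime.mul_dvd_of_dvd_of_dvd (by norm_num) h8 h5'
        have hpos : 0 < Nat.card ↥(centralizer ({w} : Set G) ⊓ K1) := Nat.card_pos
        rw [hk] at hle' hpos ⊢
        rcases Nat.lt_or_ge k 2 with h | h <;> omega
      rwa [h40''] at hdvd
    have hk8 : ρ.ker = S.subgroupOf J := by
      refine (eq_of_le_of_card_ge hle ?_).symm
      rw [Nat.card_congr (subgroupOfEquivOfLe hSJ).toEquiv, F.card]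
      have h1 : Nat.card ↥(ρ.ker.map J.subtype) ∣ Nat.card ↥(centralizer (S : Set G) ⊓ C) := card_dvd_of_le (by
        rintro _ ⟨j, hj, rfl⟩
        exact ⟨hρ.1 hj, hJC j.2⟩)
      rw [card_map_of_injective J.subtype_injective] at h1
      have h2 := card_subgroup_dvd_card ρ.ker
      rw [hJcard] at h2
      exact Nat.le_of_dvd (by norm_num) ((Nat.dvd_gcd (h1.trans h40) h2).trans (by norm_num))
    have hsurj : Function.Surjective ρ := by
      rw [← MonoidHom.range_eq_top]
      refine eq_top_of_card_eq _ ?_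
      have h := ρ.ker.card_mul_index
      rw [index_ker, hJcard, hk8, Nat.card_congr (subgroupOfEquivOfLe hSJ).toEquiv, F.card] at h
      rw [J3Uniq.Local.sl_card]
      omega
    exact ⟨(QuotientGroup.quotientMulEquivOfEq hk8.symm).trans (QuotientGroup.quotientKerEquivOfSurjective ρ hsurj)⟩
  · -- no complement
    intro K hK
    have hKc : Nat.card ↥K = 168 := by
      have := hK.card_mul
      rw [Nat.card_congr (subgroupOfEquivOfLe hSJ).toEquiv, F.card, hJcard] at this
      omega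
    obtain ⟨T, hT⟩ := Sylow.exists_subgroup_card_pow_prime 2 (n := 3) (G := ↥K) (by rw [hKc]; norm_num)
    haveI : Nontrivial ↥T := (Finite.one_lt_card_iff_nontrivial).1 (by rw [hT]; norm_num)
    have hT2 : IsPGroup 2 ↥T := IsPGroup.of_card hT
    haveI := hT2.center_nontrivial
    obtain ⟨u, hu⟩ := exists_prime_orderOf_dvd_card' (G := ↥(Subgroup.center ↥T)) 2
      ((hT2.to_subgroup _).card_eq_or_dvd.resolve_left (by
        have := Finite.one_lt_card (α := ↥(Subgroup.center ↥T)); omega))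
    set t : G := ((((u : ↥T) : ↥K) : ↥J) : G) with ht
    have hto : orderOf t = 2 := by
      rw [ht, orderOf_coe, orderOf_coe, orderOf_coe, orderOf_coe]; exact hu
    have htC : t * q = q * t := hmC.1 (hJC (((u : ↥T) : ↥K) : ↥J).2)
    have htn : ¬ IsConj z t := fun h => by
      have h1 : (((u : ↥T) : ↥K) : ↥J) ∈ S.subgroupOf J ⊓ K :=
        ⟨mem_subgroupOf.2 (hall h htC), ((u : ↥T) : ↥K).2⟩
      rw [hK.disjoint.eq_bot, mem_bot] at h1
      rw [ht, h1, Subgroup.coe_one, orderOf_one] at hto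
      norm_num at hto
    set W := S ⊓ centralizer ({t} : Set G) with hW
    have htt : t * t = 1 := by rw [← pow_two, ← hto, pow_orderOf_eq_one]
    have hti : t⁻¹ = t := inv_eq_of_mul_eq_one_right htt
    have hst : ∀ b ∈ S, t * b * t⁻¹ ∈ S := hSn (hCN (hmC.2 htC))
    have hWc : 4 ≤ Nat.card ↥W := by
      let f : ↥S →* ↥S := MonoidHom.mk' (fun b => ⟨b * (t * b * t⁻¹), mul_mem b.2 (hst b b.2)⟩) fun b c =>
        Subtype.ext (by
          show (b : G) * c * (t * (b * c) * t⁻¹) = b * (t * b * t⁻¹) * (c * (t * c * t⁻¹))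
          calc (b : G) * c * (t * (b * c) * t⁻¹) = b * (c * (t * b * t⁻¹)) * (t * c * t⁻¹) := by group
            _ = _ := by rw [F.comm c.2 (hst b b.2)]; group)
      have hker' : f.ker ≤ W.subgroupOf S := by
        intro b hb
        have h : (b : G) * (t * b * t⁻¹) = 1 := congrArg Subtype.val hb
        refine mem_subgroupOf.2 ⟨b.2, mem_centralizer_singleton_iff.2 ?_⟩
        have e : t * b * t⁻¹ = b := by
          rw [eq_inv_of_mul_eq_one_right h, inv_eq_of_mul_eq_one_right (F.sq hJ.ctr.zz b.2)]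
        exact (mul_inv_eq_iff_eq_mul.1 e).symm
      have hrange : f.range ≤ W.subgroupOf S := by
        rintro _ ⟨b, rfl⟩
        refine mem_subgroupOf.2 ⟨mul_mem b.2 (hst b b.2), mem_centralizer_singleton_iff.2 ?_⟩
        show (b : G) * (t * b * t⁻¹) * t = t * ((b : G) * (t * b * t⁻¹))
        have hc := F.comm b.2 (hst b b.2)
        rw [hti] at hc ⊢
        calc (b : G) * (t * b * t) * t = b * t * b * (t * t) := by group
          _ = b * t * b := by rw [htt, mul_one]
          _ = t * (t * b * t * b) := by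
              rw [show t * (t * (b : G) * t * b) = (t * t) * (b * t * b) by group, htt, one_mul]
          _ = _ := by rw [hc]
      have h := f.ker.card_mul_index
      rw [index_ker, F.card] at h
      have h1 := card_le_of_le hker'
      have h2 := card_le_of_le hrange
      rw [Nat.card_congr (subgroupOfEquivOfLe (inf_le_left : W ≤ S)).toEquiv] at h1 h2
      have h3 : 8 ≤ Nat.card ↥W * Nat.card ↥W := h ▸ Nat.mul_le_mul h1 h2
      have h4 : Nat.card ↥W ∣ 8 := F.card ▸ card_dvd_of_le inf_le_left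
      have h5 : Nat.card ↥W ≤ 8 := Nat.le_of_dvd (by norm_num) h4
      interval_cases hk : Nat.card ↥W <;> omega
    set TG : Subgroup G := (T.map K.subtype).map J.subtype with hTG
    have hTGc : Nat.card ↥TG = 8 := by
      rw [hTG, card_map_of_injective J.subtype_injective, card_map_of_injective K.subtype_injective, hT]; norm_num
    set D := centralizer ({t} : Set G) ⊓ C with hD
    have hTD : TG ≤ D := by
      rintro _ ⟨_, ⟨a, ha, rfl⟩, rfl⟩
      refine ⟨mem_centralizer_singleton_iff.2 ?_, hJC (a : ↥J).2⟩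
      have h := Subgroup.mem_center_iff.1 u.2 ⟨a, ha⟩
      exact congrArg (fun w : ↥T => (((w : ↥K) : ↥J) : G)) h
    have hWD : W ≤ D := fun a ha => ⟨(mem_inf.1 ha).2, hSC (mem_inf.1 ha).1⟩
    have hQD : zpowers q ≤ D := zpowers_le.2 ⟨mem_centralizer_singleton_iff.2 htC.symm, hmC.2 rfl⟩
    have hinj : Function.Injective (fun p : (↥TG × ↥W) × ↥(zpowers q) =>
        (⟨p.1.1 * p.1.2 * p.2, mul_mem (mul_mem (hTD p.1.1.2) (hWD p.1.2.2)) (hQD p.2.2)⟩ : ↥D)) := by
      rintro ⟨⟨a, b⟩, c⟩ ⟨⟨a', b'⟩, c'⟩ h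
      have e : (a : G) * b * c = a' * b' * c' := congrArg Subtype.val h
      have hTJ : ∀ x : ↥TG, (x : G) ∈ J := fun x => by
        obtain ⟨w, -, e⟩ := x.2; exact e ▸ w.2
      have hWJ : ∀ x : ↥W, (x : G) ∈ J := fun x => hSJ (mem_inf.1 x.2).1
      have hJq : J ⊓ zpowers q = ⊥ := by
        rw [eq_bot_iff]
        rintro w ⟨⟨b, hb, rfl⟩, hw⟩
        have h1 : b ∈ Hc ⊓ N0 := ⟨hb, mem_subgroupOf.2 hw⟩
        rw [hHc.disjoint.eq_bot, mem_bot] at h1
        rw [mem_bot, h1, map_one]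
      have h1 : ((a' : G) * b')⁻¹ * (a * b) = c' * (c : G)⁻¹ := by
        rw [eq_mul_inv_iff_mul_eq, mul_assoc, e, inv_mul_cancel_left]
      have h2 : ((a' : G) * b')⁻¹ * (a * b) ∈ J ⊓ zpowers q :=
        mem_inf.2 ⟨mul_mem (inv_mem (mul_mem (hTJ a') (hWJ b'))) (mul_mem (hTJ a) (hWJ b)),
          h1 ▸ mul_mem c'.2 (inv_mem c.2)⟩
      rw [hJq, mem_bot, inv_mul_eq_one] at h2
      have hc : c = c' := Subtype.ext (mul_left_cancel (by rw [← h2] at e; exact e) : (c : G) = c')
      have h3 : (a' : G)⁻¹ * a = b' * (b : G)⁻¹ := by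
        rw [eq_mul_inv_iff_mul_eq, mul_assoc, ← h2, inv_mul_cancel_left]
      obtain ⟨_, ⟨k, hk, rfl⟩, hka⟩ := a.2
      obtain ⟨_, ⟨k', hk', rfl⟩, hka'⟩ := a'.2
      have h4 : ((k'⁻¹ * k : ↥K) : ↥J) ∈ S.subgroupOf J ⊓ K := by
        refine ⟨mem_subgroupOf.2 ?_, (k'⁻¹ * k).2⟩
        have e5 : (((k'⁻¹ * k : ↥K) : ↥J) : G) = (a' : G)⁻¹ * a := by rw [← hka, ← hka']; simp
        rw [e5, h3]
        exact mul_mem (mem_inf.1 b'.2).1 (inv_mem (mem_inf.1 b.2).1)
      rw [hK.disjoint.eq_bot, mem_bot] at h4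
      have h5 : k' = k := inv_mul_eq_one.1 (Subtype.ext h4)
      have ha' : a' = a := Subtype.ext (by rw [← hka, ← hka', h5])
      subst ha'
      rw [mul_right_inj] at h2
      exact Prod.ext (Prod.ext rfl (Subtype.ext h2.symm)) hc
    have h := Nat.card_le_card_of_injective _ hinj
    rw [Nat.card_prod, Nat.card_prod, hTGc, Nat.card_zpowers, hq] at h
    have hb := cent_bound hG X hto htn hq htC
    rw [hD, hC] at h
    nlinarith

end Cfsg.Agent.J4Five
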